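/-
`O_3 ⊗ O_3`: polynomial identities for products of two commuting exponentials.
-/
import Mathlib.Tactic

set_option autoImplicit false
set_option linter.unusedSimpArgs false
set_option linter.unusedSectionVars false

namespace CfsgLib.Geo.TensorSq

section ring

variable {R : Type*} [CommRing R]

/-- A truncated exponential product minus one. -/
def expTwo (h X Y t : R) : R := (1 + t * X + h * t ^ 2 * X ^ 2) * (1 + t * Y + h * t ^ 2 * Y ^ 2) - 1

variable (h X Y : R) (hX : X ^ 3 = 0) (hY : Y ^ 3 = 0)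
include hX hY

omit hY in
theorem pow_zero_X : X ^ 4 = 0 ∧ X ^ 5 = 0 ∧ X ^ 6 = 0 ∧ X ^ 7 = 0 :=
  ⟨pow_eq_zero_of_le (by norm_num) hX, pow_eq_zero_of_le (by norm_num) hX, pow_eq_zero_of_le (by norm_num) hX,
    pow_eq_zero_of_le (by norm_num) hX⟩

/-- The cube detects both factors. -/
theorem cube : X * expTwo h X Y 1 ^ 3 = 3 * (X ^ 2 * Y ^ 2) := by
  obtain ⟨a4, a5, a6, a7⟩ := pow_zero_X X hX
  obtain ⟨b4, b5, b6, b7⟩ := pow_zero_X Y hY
  unfold expTwo
  ring_nf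
  simp only [hX, hY, a4, a5, a6, a7, b4, b5, b6, b7, mul_zero, zero_mul, add_zero, zero_add]

/-- In characteristic three the exponentials on one line have a common fixed space. -/
theorem absorb (h3 : (3 : R) = 0) (hh : h = -1) (t : R) : expTwo h X Y t * expTwo h X Y 1 ^ 2 = 0 := by
  obtain ⟨a4, a5, a6, a7⟩ := pow_zero_X X hX
  obtain ⟨b4, b5, b6, b7⟩ := pow_zero_X Y hY
  subst hh
  unfold expTwo
  ring_nf
  simp only [hX, hY, a4, a5, a6, a7, b4, b5, b6, b7, mul_zero, zero_mul, add_zero, zero_add]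
  grind

theorem ext₁ (t : R) : X * Y ^ 2 * expTwo h X Y t = t * (X ^ 2 * Y ^ 2) := by
  obtain ⟨a4, a5, a6, a7⟩ := pow_zero_X X hX
  obtain ⟨b4, b5, b6, b7⟩ := pow_zero_X Y hY
  unfold expTwo
  ring_nf
  simp only [hX, hY, a4, a5, a6, a7, b4, b5, b6, b7, mul_zero, zero_mul, add_zero, zero_add]

theorem ext₂ (t : R) : Y ^ 2 * expTwo h X Y t = t * (X * Y ^ 2) + t ^ 2 * (h * (X ^ 2 * Y ^ 2)) := by
  obtain ⟨b4, b5, b6, b7⟩ := pow_zero_X Y hY
  unfold expTwo
  ring_nf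
  simp only [hX, hY, b4, b5, b6, b7, mul_zero, zero_mul, add_zero, zero_add]

theorem ext₃ (t : R) : Y * expTwo h X Y t = t * (X * Y + Y ^ 2) + t ^ 2 * (h * (X ^ 2 * Y) + X * Y ^ 2)
    + t ^ 3 * (h * (X ^ 2 * Y ^ 2)) := by
  obtain ⟨b4, b5, b6, b7⟩ := pow_zero_X Y hY
  unfold expTwo
  ring_nf
  simp only [hX, hY, b4, b5, b6, b7, mul_zero, zero_mul, add_zero, zero_add]

end ring

end CfsgLib.Geo.TensorSq
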