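/-
`O_3 ⊗ O_3`: frames, skew endomorphisms and unipotent isometries in dimension three.
-/
import Cfsg.Agent.Geo.TensorOO.Line
import Cfsg.Agent.Geo.TensorSq.Poly

set_option autoImplicit false
set_option linter.unusedSectionVars false
set_option linter.unusedSimpArgs false

namespace CfsgLib.Geo.TensorSq

open CfsgLib.Geo CfsgLib.Geo.TensorOO

variable {F : Type*} [Field F] {s : LinearMap.BilinForm F (Fin 3 → F)}

/-- A Witt frame. -/
structure Fr (s : LinearMap.BilinForm F (Fin 3 → F)) (z u y : Fin 3 → F) : Prop where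
  zz : s z z = 0
  yy : s y y = 0
  zy : s z y = 1
  zu : s z u = 0
  yu : s y u = 0
  uu : s u u ≠ 0

/-- A skew endomorphism. -/
def IsSkew (s : LinearMap.BilinForm F (Fin 3 → F)) (P : Module.End F (Fin 3 → F)) : Prop :=
  ∀ f f', s (P f) f' + s f (P f') = 0

variable (hs : IsNS s)
include hs

omit hs in
theorem Fr.ne {z u y : Fin 3 → F} (h : Fr s z u y) : z ≠ 0 ∧ u ≠ 0 ∧ y ≠ 0 := by
  refine ⟨fun e => ?_, fun e => h.uu (by rw [e]; simp), fun e => ?_⟩ <;>
  · have := h.zy; rw [e] at this; simp at this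

theorem Fr.swap {z u y : Fin 3 → F} (h : Fr s z u y) : Fr s y u z :=
  ⟨h.yy, h.zz, by rw [hs.sym, h.zy], h.yu, h.zu, h.uu⟩

theorem Fr.yz {z u y : Fin 3 → F} (h : Fr s z u y) : s y z = 1 ∧ s u z = 0 ∧ s u y = 0 :=
  ⟨by rw [hs.sym, h.zy], by rw [hs.sym, h.zu], by rw [hs.sym, h.yu]⟩

theorem exists_frame {z : Fin 3 → F} (hz0 : z ≠ 0) (hz : s z z = 0) : ∃ u y, Fr s z u y := by
  obtain ⟨k, hk⟩ := exists_pair_one hs hz0
  have h2 := hs.two
  set y := k - (s k k / 2) • z
  have hyy : s y y = 0 := by simp [y, hz, hk, hs.sym k z]; field_simp; ring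
  have hzy : s z y = 1 := by simp [y, hz, hk]
  obtain ⟨hp, hr, hf⟩ := isPr_hy hs hz hyy hzy
  obtain ⟨u, hu, huD, -⟩ := hp.exists_line hs (by simpa using hr)
  exact ⟨u, y, hz, hyy, hzy, ((hf u).1 huD).1, ((hf u).1 huD).2, hu⟩

theorem exists_frame' [Finite F] : ∃ z u y : Fin 3 → F, Fr s z u y := by
  obtain ⟨x, -, -, -, hx0, hx, -, -⟩ := (isPr_one hs).exists_sing hs (by rw [rk_one']; simp)
  obtain ⟨u, y, h⟩ := exists_frame hs hx0 hx
  exact ⟨x, u, y, h⟩

theorem Fr.decomp {z u y : Fin 3 → F} (h : Fr s z u y) (v : Fin 3 → F) :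
    s y v • z + (s u v / s u u) • u + s z v • y = v := by
  obtain ⟨hyz, huz, huy⟩ := h.yz hs
  have hu0 := h.uu
  have hli : LinearIndependent F ![z, u, y] := by
    rw [Fintype.linearIndependent_iff]
    intro g hg
    rw [Fin.sum_univ_three] at hg
    simp at hg
    have e1 := congrArg (s y) hg
    have e2 := congrArg (s u) hg
    have e3 := congrArg (s z) hg
    simp [h.zz, h.yy, h.zy, h.zu, h.yu, hyz, huz, huy, hu0] at e1 e2 e3
    intro i
    fin_cases i <;> simp [e1, e2, e3]
  set T : (Fin 3 → F) →ₗ[F] (Fin 3 → F) :=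
    (s y).smulRight z + ((s u u)⁻¹ • s u).smulRight u + (s z).smulRight y with hT
  have he : T = LinearMap.id := (basisOfLinearIndependentOfCardEqFinrank hli (by simp)).ext fun i => by
    fin_cases i <;> simp [hT, h.zz, h.yy, h.zy, h.zu, h.yu, hyz, huz, huy, hu0]
  have := LinearMap.congr_fun he v
  simpa [hT, div_eq_mul_inv, mul_comm, smul_smul] using this

theorem Fr.ext {z u y : Fin 3 → F} (h : Fr s z u y) {N : Type*} [AddCommGroup N] [Module F N]
    {S T : (Fin 3 → F) →ₗ[F] N} (hz : S z = T z) (hu : S u = T u) (hy : S y = T y) : S = T :=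
  LinearMap.ext fun v => by rw [← h.decomp hs v]; simp only [map_add, map_smul, hz, hu, hy]

theorem sk_skew (a c : Fin 3 → F) : IsSkew s (sk s a c) := fun f f' => by
  simp [sk_apply, hs.sym f c, hs.sym f a]; ring

omit hs in
theorem IsSkew.comm {P P' : Module.End F (Fin 3 → F)} (hP : IsSkew s P) (hP' : IsSkew s P') :
    IsSkew s (P * P' - P' * P) := fun f f' => by
  have e1 := hP (P' f) f'
  have e2 := hP' (P f) f'
  have e3 := hP f (P' f')
  have e4 := hP' f (P f')
  simp only [LinearMap.sub_apply, Module.End.mul_apply, map_sub]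
  linear_combination e1 - e2 + e3 - e4

/-- The coordinates of a skew endomorphism. -/
theorem IsSkew.coords {P : Module.End F (Fin 3 → F)} (hP : IsSkew s P) {z u y : Fin 3 → F} (h : Fr s z u y) :
    ∃ a p r : F, P z = a • z + p • u ∧ P u = -(s u u * r) • z - (s u u * p) • y ∧ P y = r • u - a • y := by
  obtain ⟨hyz, huz, huy⟩ := h.yz hs
  have hu0 := h.uu
  have d : ∀ f, s f (P f) = 0 := fun f => by
    have := hP f f
    rw [hs.sym (P f) f] at this
    exact (mul_eq_zero.1 (show (2 : F) * s f (P f) = 0 by linear_combination this)).resolve_left hs.two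
  have k : ∀ f f', s f (P f') = -s f' (P f) := fun f f' => by
    have := hP f' f
    rw [hs.sym (P f') f] at this
    linear_combination this
  refine ⟨s y (P z), s u (P z) / s u u, s u (P y) / s u u, ?_, ?_, ?_⟩
  · conv_lhs => rw [← h.decomp hs (P z)]
    rw [d z, zero_smul, add_zero]
  · conv_lhs => rw [← h.decomp hs (P u)]
    rw [d u, k y u, k z u, mul_div_cancel₀ _ hu0, mul_div_cancel₀ _ hu0]
    module
  · conv_lhs => rw [← h.decomp hs (P y)]
    rw [d y, k z y]
    module

/-- The centraliser of a non-zero skew endomorphism among the skew ones is its line. -/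
theorem IsSkew.commute_eq [Finite F] {P P' : Module.End F (Fin 3 → F)} (hP : IsSkew s P) (hP' : IsSkew s P')
    (hne : P ≠ 0) (hc : P * P' = P' * P) : ∃ d : F, P' = d • P := by
  obtain ⟨z, u, y, h⟩ := exists_frame' hs
  obtain ⟨hyz, huz, huy⟩ := h.yz hs
  have hu0 := h.uu
  obtain ⟨a, p, r, e1, e2, e3⟩ := hP.coords hs h
  obtain ⟨a', p', r', e1', e2', e3'⟩ := hP'.coords hs h
  have cz := LinearMap.congr_fun hc z
  have cy := LinearMap.congr_fun hc y
  simp only [Module.End.mul_apply, e1, e1', e3, e3', map_add, map_sub, map_smul, e2, e2'] at cz cy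
  have q1 := congrArg (s y) cz
  have q2 := congrArg (s u) cz
  have q3 := congrArg (s u) cy
  simp [h.zz, h.yy, h.zy, h.zu, h.yu, hyz, huz, huy] at q1 q2 q3
  have c1 : p * r' = p' * r := mul_left_cancel₀ hu0 (by linear_combination q1)
  have c2 : a * p' = a' * p := mul_left_cancel₀ hu0 (by linear_combination -q2)
  have c3 : a * r' = a' * r := mul_left_cancel₀ hu0 (by linear_combination -q3)
  have key : ∀ d : F, a' = d * a → p' = d * p → r' = d * r → P' = d • P := fun d ha hp hr =>
    h.ext hs (by rw [LinearMap.smul_apply, e1', e1, ha, hp]; module)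
      (by rw [LinearMap.smul_apply, e2', e2, hr, hp]; module)
      (by rw [LinearMap.smul_apply, e3', e3, hr, ha]; module)
  by_cases ha : a ≠ 0
  · exact ⟨a' / a, key _ (by field_simp) (by field_simp; linear_combination c2)
      (by field_simp; linear_combination c3)⟩
  push Not at ha
  by_cases hp : p ≠ 0
  · refine ⟨p' / p, key _ ?_ (by field_simp) (by field_simp; linear_combination c1)⟩
    rw [ha, mul_zero]
    exact (mul_eq_zero.1 (show a' * p = 0 by rw [← c2, ha, zero_mul])).resolve_right hp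
  push Not at hp
  have hr : r ≠ 0 := fun hr => hne (h.ext hs (by simp [e1, ha, hp]) (by simp [e2, hr, hp]) (by simp [e3, hr, ha]))
  refine ⟨r' / r, key _ ?_ ?_ (by field_simp)⟩
  · rw [ha, mul_zero]; exact (mul_eq_zero.1 (show a' * r = 0 by rw [← c3, ha, zero_mul])).resolve_right hr
  · rw [hp, mul_zero]; exact (mul_eq_zero.1 (show p' * r = 0 by rw [← c1, hp, zero_mul])).resolve_right hr

theorem IsSkew.eq_zero_of_sq [Finite F] {P : Module.End F (Fin 3 → F)} (hP : IsSkew s P) (h0 : P * P = 0) :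
    P = 0 := by
  obtain ⟨z, u, y, h⟩ := exists_frame' hs
  obtain ⟨hyz, huz, huy⟩ := h.yz hs
  have hu0 := h.uu
  obtain ⟨a, p, r, e1, e2, e3⟩ := hP.coords hs h
  have cz := LinearMap.congr_fun h0 z
  have cy := LinearMap.congr_fun h0 y
  simp only [Module.End.mul_apply, e1, e3, map_add, map_sub, map_smul, e2, LinearMap.zero_apply] at cz cy
  have q1 := congrArg (s z) cz
  have q2 := congrArg (s y) cz
  have q3 := congrArg (s y) cy
  simp [h.zz, h.yy, h.zy, h.zu, h.yu, hyz, huz, huy, hu0] at q1 q2 q3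
  have hp : p = 0 := by simpa using q1
  have hr : r = 0 := by simpa using q3
  have ha : a = 0 := by simpa [hp] using q2
  exact h.ext hs (by simp [e1, ha, hp]) (by simp [e2, hr, hp]) (by simp [e3, hr, ha])

/-- A unipotent isometry is the exponential of a skew endomorphism. -/
theorem exists_log {A : Module.End F (Fin 3 → F)} (hA : ∀ f f', s (A f) (A f') = s f f') (hN : (A - 1) ^ 3 = 0) :
    ∃ n : Module.End F (Fin 3 → F), IsSkew s n ∧ n ^ 3 = 0 ∧ A = 1 + n + (2⁻¹ : F) • n ^ 2 := by
  have h2 := hs.two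
  set N := A - 1 with hNdef
  have hN3 : N * N * N = 0 := by rw [← hN, pow_succ, pow_two]
  have hN4 : N * N * N * N = 0 := by rw [hN3, zero_mul]
  have R : ∀ f f', s (N f) f' + s f (N f') + s (N f) (N f') = 0 := fun f f' => by
    have := hA f f'
    rw [show A = 1 + N by rw [hNdef]; abel] at this
    simp at this
    linear_combination this
  have z3 : ∀ f, N (N (N f)) = 0 := fun f => LinearMap.congr_fun hN3 f
  refine ⟨N - (2⁻¹ : F) • (N * N), fun f f' => ?_, ?_, ?_⟩
  · have p := R f (N (N f'))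
    have p' := R (N (N f)) f'
    have r1 := R f (N f')
    have r2 := R (N f) f'
    have r3 := R (N f) (N (N f'))
    have r4 := R (N (N f)) (N f')
    simp [z3] at p p' r3 r4
    have a := R (N f) (N f')
    simp only [LinearMap.sub_apply, LinearMap.smul_apply, Module.End.mul_apply, map_sub, map_smul,
      LinearMap.sub_apply, LinearMap.smul_apply, smul_eq_mul]
    field_simp
    linear_combination 2 * R f f' - r1 - r2 + a - r3
  · rw [pow_succ, pow_two]
    simp only [sub_mul, mul_sub, smul_mul_assoc, mul_smul_comm, ← mul_assoc, hN3, hN4, smul_zero, sub_zero,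
      zero_mul]
  · rw [pow_two]
    simp only [sub_mul, mul_sub, smul_mul_assoc, mul_smul_comm, ← mul_assoc, hN3, hN4, smul_zero, sub_zero,
      zero_mul]
    rw [hNdef]
    abel

/-- Exponentials of skew endomorphisms are isometries. -/
theorem exp_iso {n : Module.End F (Fin 3 → F)} (hn : IsSkew s n) (hn3 : n ^ 3 = 0) (t : F) (f f' : Fin 3 → F) :
    s ((1 + t • n + (2⁻¹ * t ^ 2) • n ^ 2 : Module.End F (Fin 3 → F)) f)
      ((1 + t • n + (2⁻¹ * t ^ 2) • n ^ 2 : Module.End F (Fin 3 → F)) f') = s f f' := by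
  have h2 := hs.two
  have z3 : ∀ g, n (n (n g)) = 0 := fun g => by
    have := LinearMap.congr_fun hn3 g
    simpa [pow_succ] using this
  have e1 := hn f f'
  have e2 := hn (n f) f'
  have e2' := hn f (n f')
  have e3 := hn (n (n f)) f'
  have e3' := hn f (n (n f'))
  have e4 := hn (n f) (n (n f'))
  simp [z3] at e3 e3' e4
  simp [pow_two]
  field_simp
  simp only [e3, e3', e4]
  linear_combination 4 * t * e1 + 2 * t ^ 2 * e2 + 2 * t ^ 2 * e2'

omit hs in
theorem exp_mul {n : Module.End F (Fin 3 → F)} (h2 : (2 : F) ≠ 0) (hn3 : n ^ 3 = 0) (t t' : F) :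
    (1 + t • n + (2⁻¹ * t ^ 2) • n ^ 2) * (1 + t' • n + (2⁻¹ * t' ^ 2) • n ^ 2)
      = 1 + (t + t') • n + (2⁻¹ * (t + t') ^ 2) • n ^ 2 := by
  have a : n * n ^ 2 = 0 := by rw [← hn3, pow_succ' n 2]
  have a' : n ^ 2 * n = 0 := by rw [← hn3, pow_succ n 2]
  have a4 : n ^ 2 * n ^ 2 = 0 := by rw [pow_two n, mul_assoc, ← pow_two, a, mul_zero]
  simp only [add_mul, mul_add, one_mul, mul_one, smul_mul_assoc, mul_smul_comm, a, a', a4, smul_zero, add_zero,
    ← pow_two]
  match_scalars <;> field_simp <;> ring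

end CfsgLib.Geo.TensorSq
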