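/-
`O_3 ⊗ O_3`: the four-form of the projection onto the Lie algebra of the two factors and its stabiliser.
-/
import Cfsg.Agent.Geo.TensorSq.Basic

set_option autoImplicit false
set_option linter.unusedSectionVars false
set_option linter.unusedSimpArgs false

namespace CfsgLib.Geo.TensorSq

open Matrix CfsgLib.Geo CfsgLib.Geo.Tensor CfsgLib.Geo.TensorO CfsgLib.Geo.TensorSp CfsgLib.Geo.TensorOO

variable {F : Type*} [Field F] {B : LinearMap.BilinForm F (Fin 3 × Fin 3 → F)}
  {b s : LinearMap.BilinForm F (Fin 3 → F)} {M : Subgroup (GL (Fin 3 × Fin 3) F)}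

/-! ### Product maps and exchanging maps -/

/-- A product map. -/
def IsK (g : GL (Fin 3 × Fin 3) F) : Prop :=
  ∃ A C : Module.End F (Fin 3 → F), ∀ u f, act g (ten u f) = ten (A u) (C f)

/-- An exchanging product map. -/
def IsS (g : GL (Fin 3 × Fin 3) F) : Prop :=
  ∃ A C : Module.End F (Fin 3 → F), ∀ u f, act g (ten u f) = ten (A f) (C u)

/-- The stabiliser of the tensor decomposition. -/
def InW (g : GL (Fin 3 × Fin 3) F) : Prop := IsK g ∨ IsS g

/-- The standing hypotheses: trivial root groups and an exchanging member. -/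
structure Ctx (B : LinearMap.BilinForm F (Fin 3 × Fin 3 → F)) (b s : LinearMap.BilinForm F (Fin 3 → F))
    (M : Subgroup (GL (Fin 3 × Fin 3) F)) : Prop where
  hG : Good B b s M
  swap : ∃ g ∈ M, IsS g

theorem ten_eq_zero {u f : Fin 3 → F} (h : ten u f = 0) : u = 0 ∨ f = 0 := by
  by_cases hf : f = 0
  · exact Or.inr hf
  · exact Or.inl (ten_injective hf (h.trans (ten_zero_left f).symm))

theorem isS_bij {g : GL (Fin 3 × Fin 3) F} {A C : Module.End F (Fin 3 → F)}
    (h : ∀ u f, act g (ten u f) = ten (A f) (C u)) : Function.Bijective A ∧ Function.Bijective C := by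
  obtain ⟨e, he⟩ := exists_ne (0 : Fin 3 → F)
  have hA : Function.Injective A := (injective_iff_map_eq_zero A).2 fun f hf => by
    have h0 : act g (ten e f) = act g 0 := by rw [h, hf, ten_zero_left, map_zero]
    exact (ten_eq_zero (act_injective g h0)).resolve_left he
  have hC : Function.Injective C := (injective_iff_map_eq_zero C).2 fun u hu => by
    have h0 : act g (ten u e) = act g 0 := by rw [h, hu, ten_zero_right, map_zero]
    exact (ten_eq_zero (act_injective g h0)).resolve_right he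
  exact ⟨⟨hA, LinearMap.injective_iff_surjective.1 hA⟩, ⟨hC, LinearMap.injective_iff_surjective.1 hC⟩⟩

theorem IsK.mem_krs {g : GL (Fin 3 × Fin 3) F} (hg : IsK g) : g ∈ krs := by
  obtain ⟨A, C, h⟩ := hg
  obtain ⟨e, he⟩ := exists_ne (0 : Fin 3 → F)
  have hA : Function.Injective A := (injective_iff_map_eq_zero A).2 fun u hu => by
    have h0 : act g (ten u e) = act g 0 := by rw [h, hu, ten_zero_left, map_zero]
    exact (ten_eq_zero (act_injective g h0)).resolve_right he
  have hC : Function.Injective C := (injective_iff_map_eq_zero C).2 fun f hf => by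
    have h0 : act g (ten e f) = act g 0 := by rw [h, hf, ten_zero_right, map_zero]
    exact (ten_eq_zero (act_injective g h0)).resolve_left he
  obtain ⟨a, ha⟩ := exists_gl A hA
  obtain ⟨c, hc⟩ := exists_gl C hC
  exact ⟨a, c, act_inj (Tensor.map_ext fun u f => by rw [h, act_apply, kr_ten, ha, hc])⟩

theorem isK_of_mem_krs {g : GL (Fin 3 × Fin 3) F} (hg : g ∈ krs) : IsK g := by
  obtain ⟨a, c, rfl⟩ := hg
  exact ⟨act a, act c, fun u f => by rw [act_apply, kr_ten]; rfl⟩

/-- Squares of members of the stabiliser are product maps. -/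
theorem InW.sq {g : GL (Fin 3 × Fin 3) F} (hg : InW g) : IsK (g * g) := by
  rcases hg with ⟨A, C, h⟩ | ⟨A, C, h⟩
  · exact ⟨A * A, C * C, fun u f => by rw [act_mul, Module.End.mul_apply, h, h]; rfl⟩
  · exact ⟨A * C, C * A, fun u f => by rw [act_mul, Module.End.mul_apply, h, h]; rfl⟩

/-! ### The four-form -/

section form

variable (b s)

/-- `u ↦ cu b u x`. -/
def cuL (x : Fin 3 × Fin 3 → F) : Module.End F (Fin 3 → F) where
  toFun u := cu b u x
  map_add' u u' := cu_add u u' x
  map_smul' c u := cu_smul c u x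

/-- `f ↦ cw s f x`. -/
def cwL (x : Fin 3 × Fin 3 → F) : Module.End F (Fin 3 → F) where
  toFun f := cw s f x
  map_add' f f' := cw_add f f' x
  map_smul' c f := cw_smul c f x

theorem cuL_apply (x : Fin 3 × Fin 3 → F) (u : Fin 3 → F) : cuL b x u = cu b u x := rfl

theorem cwL_apply (x : Fin 3 × Fin 3 → F) (f : Fin 3 → F) : cwL s x f = cw s f x := rfl

theorem cuL_add (x y : Fin 3 × Fin 3 → F) : cuL b (x + y) = cuL b x + cuL b y :=
  LinearMap.ext fun u => by simp [cuL_apply]

theorem cuL_smul (c : F) (x : Fin 3 × Fin 3 → F) : cuL b (c • x) = c • cuL b x :=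
  LinearMap.ext fun u => by simp [cuL_apply]

theorem cwL_add (x y : Fin 3 × Fin 3 → F) : cwL s (x + y) = cwL s x + cwL s y :=
  LinearMap.ext fun u => by simp [cwL_apply]

theorem cwL_smul (c : F) (x : Fin 3 × Fin 3 → F) : cwL s (c • x) = c • cwL s x :=
  LinearMap.ext fun u => by simp [cwL_apply]

/-- The component in the Lie algebra of the first factor. -/
def KL (x y : Fin 3 × Fin 3 → F) : Module.End F (Fin 3 → F) := cwL s x * cuL b y - cwL s y * cuL b x

/-- The component in the Lie algebra of the second factor. -/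
def KR (x y : Fin 3 × Fin 3 → F) : Module.End F (Fin 3 → F) := cuL b x * cwL s y - cuL b y * cwL s x

/-- The projection of `x ∧ y`. -/
noncomputable def psi : (Fin 3 × Fin 3 → F) →ₗ[F] (Fin 3 × Fin 3 → F) →ₗ[F] Module.End F (Fin 3 × Fin 3 → F) :=
  LinearMap.mk₂ F (fun x y => tm (KL b s x y) 1 + tm 1 (KR b s x y))
    (fun x x' y => by
      simp only [KL, KR, cuL_add, cwL_add, add_mul, mul_add, tm_add_left, tm_add_right, tm_sub_left, tm_sub_right]
      abel)
    (fun c x y => by
      simp only [KL, KR, cuL_smul, cwL_smul, smul_mul_assoc, mul_smul_comm, tm_sub_left, tm_sub_right,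
        tm_smul_left, tm_smul_right, smul_sub, smul_add])
    (fun x y y' => by
      simp only [KL, KR, cuL_add, cwL_add, add_mul, mul_add, tm_add_left, tm_add_right, tm_sub_left, tm_sub_right]
      abel)
    (fun c x y => by
      simp only [KL, KR, cuL_smul, cwL_smul, smul_mul_assoc, mul_smul_comm, tm_sub_left, tm_sub_right,
        tm_smul_left, tm_smul_right, smul_sub, smul_add])

theorem psi_self (x : Fin 3 × Fin 3 → F) : psi b s x x = 0 := by
  show tm (KL b s x x) 1 + tm 1 (KR b s x x) = 0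
  simp [KL, KR, tm_zero_left, tm_zero_right]

/-- The four-form. -/
noncomputable def four (B : LinearMap.BilinForm F (Fin 3 × Fin 3 → F)) (x y v w : Fin 3 × Fin 3 → F) : F :=
  B v (psi b s x y w)

/-- Preservation of the four-form. -/
def Pres (B : LinearMap.BilinForm F (Fin 3 × Fin 3 → F)) (g : GL (Fin 3 × Fin 3) F) : Prop :=
  ∀ x y v w, four b s B (act g x) (act g y) (act g v) (act g w) = four b s B x y v w

end form

theorem Pres.mul {g h : GL (Fin 3 × Fin 3) F} (hg : Pres b s B g) (hh : Pres b s B h) : Pres b s B (g * h) :=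
  fun x y v w => by simp only [act_mul, Module.End.mul_apply]; rw [hg, hh]

theorem Pres.inv {g : GL (Fin 3 × Fin 3) F} (hg : Pres b s B g) : Pres b s B g⁻¹ := fun x y v w => by
  conv_rhs => rw [← act_apply_inv g x, ← act_apply_inv g y, ← act_apply_inv g v, ← act_apply_inv g w, hg]

variable (hT : IsTOO B b s)
include hT

theorem psi_ten (u f u' f' : Fin 3 → F) :
    psi b s (ten u f) (ten u' f') = s f f' • tm (sk b u' u) 1 + b u u' • tm 1 (sk s f' f) := by
  show tm (KL b s (ten u f) (ten u' f')) 1 + tm 1 (KR b s (ten u f) (ten u' f')) = _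
  rw [← tm_smul_left, ← tm_smul_right]
  congr 2
  all_goals
    refine LinearMap.ext fun w => ?_
    simp only [KL, KR, LinearMap.sub_apply, Module.End.mul_apply, cuL_apply, cwL_apply, cu_ten, cw_ten,
      cu_smul, cw_smul, map_smul, LinearMap.smul_apply, sk_apply, hT.left.sym u' u, hT.right.sym f' f,
      hT.left.sym w, hT.right.sym w]
    module

theorem ext_two {N : Type*} [AddCommGroup N] [Module F N]
    {L L' : (Fin 3 × Fin 3 → F) →ₗ[F] (Fin 3 × Fin 3 → F) →ₗ[F] N}
    (h : ∀ u f u' f', L (ten u f) (ten u' f') = L' (ten u f) (ten u' f')) : L = L' :=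
  Tensor.map_ext fun u f => Tensor.map_ext fun u' f' => h u f u' f'

theorem psi_shape (x y : Fin 3 × Fin 3 → F) :
    ∃ P Q, IsSkew b P ∧ IsSkew s Q ∧ psi b s x y = tm P 1 + tm 1 Q := by
  refine ⟨KL b s x y, KR b s x y, fun v w => ?_, fun v w => ?_, rfl⟩
  · have h := fun v w : Fin 3 → F => show ∀ x y, b (KL b s x y v) w + b v (KL b s x y w) = 0 by
      intro x y
      simp only [KL, LinearMap.sub_apply, Module.End.mul_apply, map_sub, cuL_apply, cwL_apply]
      rw [hT.left.sym (cw s (cu b v y) x) w, hT.left.sym (cw s (cu b v x) y) w, ← hT.ten_left', ← hT.ten_left',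
        ← hT.ten_left', ← hT.ten_left', hT.ten_left, hT.ten_left, hT.ten_left, hT.ten_left,
        hT.right.sym (cu b v y), hT.right.sym (cu b v x)]
      ring
    exact h v w x y
  · have h := fun v w : Fin 3 → F => show ∀ x y, s (KR b s x y v) w + s v (KR b s x y w) = 0 by
      intro x y
      simp only [KR, LinearMap.sub_apply, Module.End.mul_apply, map_sub, cuL_apply, cwL_apply]
      rw [hT.right.sym (cu b (cw s v y) x) w, hT.right.sym (cu b (cw s v x) y) w, ← hT.ten_left, ← hT.ten_left,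
        ← hT.ten_left, ← hT.ten_left, hT.ten_left', hT.ten_left', hT.ten_left', hT.ten_left',
        hT.left.sym (cw s v y), hT.left.sym (cw s v x)]
      ring
    exact h v w x y

theorem four_self (x v w : Fin 3 × Fin 3 → F) : four b s B x x v w = 0 := by
  simp [four, psi_self]

theorem pres_of_comm {g : GL (Fin 3 × Fin 3) F} (hg : g ∈ iso B)
    (h : ∀ x y, psi b s (act g x) (act g y) * act g = act g * psi b s x y) : Pres b s B g := fun x y v w => by
  show B (act g v) (psi b s (act g x) (act g y) (act g w)) = _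
  rw [← Module.End.mul_apply (psi b s (act g x) (act g y)), h, Module.End.mul_apply]
  exact hg _ _

theorem Pres.comm {g : GL (Fin 3 × Fin 3) F} (hg : g ∈ iso B) (h : Pres b s B g) (x y : Fin 3 × Fin 3 → F) :
    psi b s (act g x) (act g y) * act g = act g * psi b s x y := by
  refine LinearMap.ext fun w => eq_of_pair hT.isNS fun v => ?_
  obtain ⟨v, rfl⟩ := act_surjective g v
  exact (h x y v w).trans (hg v _).symm

/-- The multiplier of a product of similitudes. -/
theorem exists_mult [Finite F] {b₁ s₁ : LinearMap.BilinForm F (Fin 3 → F)} (h₁ : IsNS b₁) (k₁ : IsNS s₁)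
    {A C : Module.End F (Fin 3 → F)} (h : ∀ u u' f f', b (A u) (A u') * s (C f) (C f') = b₁ u u' * s₁ f f') :
    ∃ μ : F, μ ≠ 0 ∧ (∀ u u', b (A u) (A u') = μ * b₁ u u') ∧ ∀ f f', s (C f) (C f') = μ⁻¹ * s₁ f f' := by
  obtain ⟨_, u₀, _, hu⟩ := exists_frame' h₁
  obtain ⟨_, f₀, _, hf⟩ := exists_frame' k₁
  have e := h u₀ u₀ f₀ f₀
  have hA : b (A u₀) (A u₀) ≠ 0 := fun h0 => mul_ne_zero hu.uu hf.uu (by rw [← e, h0, zero_mul])
  have hC : s (C f₀) (C f₀) ≠ 0 := fun h0 => mul_ne_zero hu.uu hf.uu (by rw [← e, h0, mul_zero])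
  have hu0 := hu.uu
  refine ⟨b (A u₀) (A u₀) / b₁ u₀ u₀, div_ne_zero hA hu.uu, fun u u' => ?_, fun f f' => ?_⟩
  · refine mul_right_cancel₀ hC ?_
    rw [h u u' f₀ f₀, mul_assoc, mul_comm (b₁ u u') (s (C f₀) (C f₀)), ← mul_assoc, div_mul_eq_mul_div, e]
    field_simp
  · rw [inv_div]
    refine mul_left_cancel₀ hA ?_
    rw [h u₀ u₀ f f']
    field_simp

theorem pres_of_inW [Finite F] {g : GL (Fin 3 × Fin 3) F} (hg : g ∈ iso B) (hW : InW g) : Pres b s B g := by
  refine pres_of_comm hT hg fun x y => ?_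
  have key := ext_two hT (L := LinearMap.compr₂ ((psi b s).compl₁₂ (act g) (act g)) (LinearMap.mulRight F (act g)))
    (L' := LinearMap.compr₂ (psi b s) (LinearMap.mulLeft F (act g))) ?_
  · exact LinearMap.congr_fun (LinearMap.congr_fun key x) y
  intro u f u' f'
  show psi b s (act g (ten u f)) (act g (ten u' f')) * act g = act g * psi b s (ten u f) (ten u' f')
  rcases hW with ⟨A, C, h⟩ | ⟨A, C, h⟩
  · obtain ⟨μ, hμ, hA, hC⟩ := exists_mult hT (b₁ := b) (s₁ := s) hT.left hT.right (A := A) (C := C) fun p p' q q' => by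
      rw [← hT.pol, ← hT.pol, ← h, ← h]; exact hg _ _
    refine Tensor.map_ext fun w e => ?_
    simp only [h, psi_ten hT, Module.End.mul_apply, LinearMap.add_apply, LinearMap.smul_apply, tm_ten, map_add,
      map_smul, Module.End.one_apply, sk_apply, hA, hC, ten_sub_left, ten_sub_right, ten_smul_left, ten_smul_right,
      map_sub]
    match_scalars <;> field_simp <;> ring
  · obtain ⟨μ, hμ, hA, hC⟩ := exists_mult hT (b₁ := s) (s₁ := b) hT.right hT.left (A := A) (C := C) fun p p' q q' => by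
      rw [← hT.pol, mul_comm (s p p'), ← hT.pol, ← h, ← h]; exact hg _ _
    refine Tensor.map_ext fun w e => ?_
    simp only [h, psi_ten hT, Module.End.mul_apply, LinearMap.add_apply, LinearMap.smul_apply, tm_ten, map_add,
      map_smul, Module.End.one_apply, sk_apply, hA, hC, ten_sub_left, ten_sub_right, ten_smul_left, ten_smul_right,
      map_sub]
    match_scalars <;> field_simp <;> ring

theorem tm_inj [Finite F] {P Q : Module.End F (Fin 3 → F)} (hP : IsSkew b P) (hQ : IsSkew s Q)
    (h : tm P 1 + tm 1 Q = 0) : P = 0 ∧ Q = 0 := by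
  obtain ⟨_, u₀, _, hu⟩ := exists_frame' hT.left
  obtain ⟨_, f₀, _, hf⟩ := exists_frame' hT.right
  have two : (2 : F) ≠ 0 := hT.two
  have hQ0 : s f₀ (Q f₀) = 0 := by
    have := hQ f₀ f₀
    rw [hT.right.sym (Q f₀) f₀] at this
    exact (mul_eq_zero.1 (show (2 : F) * s f₀ (Q f₀) = 0 by linear_combination this)).resolve_left two
  have hP0 : b u₀ (P u₀) = 0 := by
    have := hP u₀ u₀
    rw [hT.left.sym (P u₀) u₀] at this
    exact (mul_eq_zero.1 (show (2 : F) * b u₀ (P u₀) = 0 by linear_combination this)).resolve_left two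
  constructor
  · refine LinearMap.ext fun u => ?_
    have := congrArg (cw s f₀) (LinearMap.congr_fun h (ten u f₀))
    simpa [hQ0, hf.uu] using this
  · refine LinearMap.ext fun f => ?_
    have := congrArg (cu b u₀) (LinearMap.congr_fun h (ten u₀ f))
    simpa [hP0, hu.uu] using this

theorem tm_comm (P Q P' Q' : Module.End F (Fin 3 → F)) :
    (tm P 1 + tm 1 Q) * (tm P' 1 + tm 1 Q') - (tm P' 1 + tm 1 Q') * (tm P 1 + tm 1 Q)
      = tm (P * P' - P' * P) 1 + tm 1 (Q * Q' - Q' * Q) := by
  simp only [add_mul, mul_add, tm_mul, one_mul, mul_one, tm_sub_left, tm_sub_right]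
  abel

omit hT

/-- A member mapping a block of the first factor into a singular block is a product map. -/
theorem map_into [Finite F] (hG : Good B b s M) {g : GL (Fin 3 × Fin 3) F} (hg : g ∈ M) {z z' : Fin 3 → F}
    (hz0 : z ≠ 0) (hz : b z z = 0) (hz0' : z' ≠ 0) (h : ∀ f, ∃ f', act g (ten z' f) = ten z f') : IsK g := by
  obtain ⟨_, f₀, _, hf⟩ := exists_frame' hG.hT.right
  have hz' : b z' z' = 0 := by
    obtain ⟨f', hf'⟩ := h f₀
    have e : B (act g (ten z' f₀)) (act g (ten z' f₀)) = B (ten z' f₀) (ten z' f₀) := hG.hM.sub hg _ _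
    rw [hf', hG.hT.pol, hG.hT.pol, hz, zero_mul] at e
    exact (mul_eq_zero.1 e.symm).resolve_right hf.uu
  exact isK_of_mem_krs (hG.line hg hz0' hz' hz0 hz h).1

/-- A member mapping a block of the second factor into a singular block exchanges the factors. -/
theorem map_into' [Finite F] (hC : Ctx B b s M) {g : GL (Fin 3 × Fin 3) F} (hg : g ∈ M) {z x' : Fin 3 → F}
    (hz0 : z ≠ 0) (hz : b z z = 0) (hx0 : x' ≠ 0) (h : ∀ u, ∃ f', act g (ten u x') = ten z f') : IsS g := by
  obtain ⟨τ, hτ, A, C, hAC⟩ := hC.swap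
  obtain ⟨hA, hCb⟩ := isS_bij hAC
  obtain ⟨z', rfl⟩ := hCb.2 x'
  have hz0' : z' ≠ 0 := fun e => hx0 (by rw [e, map_zero])
  obtain ⟨A₁, C₁, h1⟩ := map_into hC.hG (M.mul_mem hg hτ) hz0 hz hz0' fun f => by
    obtain ⟨f', hf'⟩ := h (A f)
    exact ⟨f', by rw [act_mul, Module.End.mul_apply, hAC, hf']⟩
  let eA := LinearEquiv.ofBijective A hA
  let eC := LinearEquiv.ofBijective C hCb
  refine ⟨A₁ ∘ₗ eC.symm.toLinearMap, C₁ ∘ₗ eA.symm.toLinearMap, fun v w => ?_⟩
  have := h1 (eC.symm w) (eA.symm v)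
  rw [act_mul, Module.End.mul_apply, hAC] at this
  have ea : A (eA.symm v) = v := eA.apply_symm_apply v
  have ec : C (eC.symm w) = w := eC.apply_symm_apply w
  rw [ea, ec] at this
  exact this

theorem inW_inv_of_pres [Finite F] (hC : Ctx B b s M) {g : GL (Fin 3 × Fin 3) F} (hg : g ∈ M)
    (hp : Pres b s B g) : InW g⁻¹ := by
  have hT := hC.hG.hT
  have h2 := hT.two
  obtain ⟨z, u, y, hb⟩ := exists_frame' hT.left
  obtain ⟨hyz, huz, huy⟩ := hb.yz hT.left
  obtain ⟨x, v, w, hs⟩ := exists_frame' hT.right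
  obtain ⟨hwx, hvx, hvw⟩ := hs.yz hT.right
  -- conjugates of elements of the two factors
  have left : ∀ a c, ∃ P Q, IsSkew b P ∧ IsSkew s Q ∧
      act g * tm (sk b a c) 1 = (tm P 1 + tm 1 Q) * act g := by
    intro a c
    obtain ⟨P, Q, hP, hQ, e⟩ := psi_shape hT ((s v v)⁻¹ • act g (ten c v)) (act g (ten a v))
    refine ⟨P, Q, hP, hQ, ?_⟩
    rw [← e, ← map_smul (act g), Pres.comm hT (hC.hG.hM.sub hg) hp, map_smul, LinearMap.smul_apply, psi_ten hT,
      show sk s v v = 0 from sk_self v, tm_zero_right, smul_zero, add_zero, smul_smul, inv_mul_cancel₀ hs.uu,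
      one_smul]
  have right : ∀ a c, ∃ P Q, IsSkew b P ∧ IsSkew s Q ∧
      act g * tm 1 (sk s a c) = (tm P 1 + tm 1 Q) * act g := by
    intro a c
    obtain ⟨P, Q, hP, hQ, e⟩ := psi_shape hT ((b u u)⁻¹ • act g (ten u c)) (act g (ten u a))
    refine ⟨P, Q, hP, hQ, ?_⟩
    rw [← e, ← map_smul (act g), Pres.comm hT (hC.hG.hM.sub hg) hp, map_smul, LinearMap.smul_apply, psi_ten hT,
      show sk b u u = 0 from sk_self u, tm_zero_left, smul_zero, zero_add, smul_smul, inv_mul_cancel₀ hb.uu,
      one_smul]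
  have cancel : ∀ {S T : Module.End F (Fin 3 × Fin 3 → F)}, S * act g = T * act g → S = T := fun {S T} e =>
    LinearMap.ext fun x => by
      obtain ⟨x, rfl⟩ := act_surjective g x
      exact LinearMap.congr_fun e x
  have conj2 : ∀ {L L' : Module.End F (Fin 3 × Fin 3 → F)} {R R' : Module.End F (Fin 3 × Fin 3 → F)},
      act g * L = R * act g → act g * L' = R' * act g → act g * (L * L') = (R * R') * act g :=
    fun {L L' R R'} e e' => by rw [← mul_assoc, e, mul_assoc, e', mul_assoc]
  set l := sk b z u with hl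
  set h := sk b z y with hh
  have hlz : l z = 0 := by simp [hl, sk_apply, hb.zz, huz, hb.zu]
  have hlu : l u = -(b u u) • z := by simp [hl, sk_apply, hb.zu]
  have hly : l y = u := by simp [hl, sk_apply, hb.zy, huy]
  obtain ⟨P, Q, hP, hQ, el⟩ := left z u
  obtain ⟨Ph, Qh, hPh, hQh, eh⟩ := left z y
  obtain ⟨P₁, Q₁, hP₁, hQ₁, e₁⟩ := right x v
  obtain ⟨P₂, Q₂, hP₂, hQ₂, e₂⟩ := right x w
  -- commuting relations
  have comm : ∀ {P Q P' Q' : Module.End F (Fin 3 → F)} {L L' : Module.End F (Fin 3 × Fin 3 → F)},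
      IsSkew b P → IsSkew s Q → IsSkew b P' → IsSkew s Q' → act g * L = (tm P 1 + tm 1 Q) * act g →
      act g * L' = (tm P' 1 + tm 1 Q') * act g → L * L' = L' * L → P * P' = P' * P ∧ Q * Q' = Q' * Q := by
    intro P Q P' Q' L L' hP hQ hP' hQ' e e' hc
    have := cancel (show (tm (P * P' - P' * P) 1 + tm 1 (Q * Q' - Q' * Q)) * act g = 0 * act g by
      rw [← tm_comm hT, sub_mul, zero_mul, ← conj2 e e', ← conj2 e' e, hc, sub_self])
    obtain ⟨a, c⟩ := tm_inj hT (hP.comm hP') (hQ.comm hQ') this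
    exact ⟨sub_eq_zero.1 a, sub_eq_zero.1 c⟩
  have cross : ∀ L L' : Module.End F (Fin 3 → F), tm L 1 * tm 1 L' = tm 1 L' * tm L 1 := fun L L' => by
    rw [tm_mul, tm_mul, one_mul, mul_one, one_mul, mul_one]
  obtain ⟨cP1, cQ1⟩ := comm hP hQ hP₁ hQ₁ el e₁ (cross _ _)
  obtain ⟨cP2, cQ2⟩ := comm hP hQ hP₂ hQ₂ el e₂ (cross _ _)
  obtain ⟨dP1, -⟩ := comm hPh hQh hP₁ hQ₁ eh e₁ (cross _ _)
  obtain ⟨dP2, -⟩ := comm hPh hQh hP₂ hQ₂ eh e₂ (cross _ _)
  have hbr : h * l - l * h = -l := hb.ext hT.left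
    (by simp [hl, hh, sk_apply, hb.zz, hb.zy, hb.zu, hb.yu, hyz, huz, huy])
    (by simp [hl, hh, sk_apply, hb.zz, hb.zy, hb.zu, hb.yu, hyz, huz, huy, hb.yy])
    (by simp [hl, hh, sk_apply, hb.zz, hb.zy, hb.zu, hb.yu, hyz, huz, huy, hb.yy])
  -- one component vanishes
  have dich : P = 0 ∨ Q = 0 := by
    by_contra hne
    push Not at hne
    obtain ⟨d₁, hd₁⟩ := hP.commute_eq hT.left hP₁ hne.1 cP1
    obtain ⟨d₂, hd₂⟩ := hP.commute_eq hT.left hP₂ hne.1 cP2
    have hPhP : Ph * P - P * Ph = -P := by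
      have e3 := cancel (show (tm (Ph * P - P * Ph + P) 1 + tm 1 (Qh * Q - Q * Qh + Q)) * act g = 0 * act g by
        rw [tm_add_left, tm_add_right, add_add_add_comm, ← tm_comm hT, add_mul, sub_mul, zero_mul,
          ← conj2 eh el, ← conj2 el eh, ← el, ← mul_sub, ← mul_add, tm_mul, tm_mul, one_mul, ← tm_sub_left,
          hbr, ← tm_add_left, neg_add_cancel, tm_zero_left, mul_zero])
      have hQ' : IsSkew s (Qh * Q - Q * Qh + Q) := fun a c => by
        have := hQh.comm hQ a c; have := hQ a c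
        simp only [LinearMap.add_apply, map_add, LinearMap.add_apply]
        linear_combination hQh.comm hQ a c + hQ a c
      have hP' : IsSkew b (Ph * P - P * Ph + P) := fun a c => by
        simp only [LinearMap.add_apply, map_add, LinearMap.add_apply]
        linear_combination hPh.comm hP a c + hP a c
      exact eq_neg_of_add_eq_zero_left (tm_inj hT hP' hQ' e3).1
    have zeroP : ∀ {P' : Module.End F (Fin 3 → F)} {d : F}, P' = d • P → Ph * P' = P' * Ph → P' = 0 := by
      intro P' d hd hc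
      rw [hd, mul_smul_comm, smul_mul_assoc] at hc
      have : d • P = 0 := by
        have e4 : d • (Ph * P - P * Ph) = 0 := by rw [smul_sub, hc, sub_self]
        rw [hPhP, smul_neg, neg_eq_zero] at e4
        exact e4
      rw [hd, this]
    have p1 := zeroP hd₁ dP1
    have p2 := zeroP hd₂ dP2
    obtain ⟨k₁, hk₁⟩ := hQ.commute_eq hT.right hQ₁ hne.2 cQ1
    obtain ⟨k₂, hk₂⟩ := hQ.commute_eq hT.right hQ₂ hne.2 cQ2
    have hz : act g * tm 1 (k₂ • sk s x v - k₁ • sk s x w) = act g * 0 := by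
      rw [tm_sub_right, tm_smul_right, tm_smul_right, mul_sub, mul_smul_comm, mul_smul_comm, e₁, e₂, p1, p2, hk₁, hk₂,
        tm_zero_left, zero_add, zero_add, mul_zero, tm_smul_right, tm_smul_right, smul_mul_assoc, smul_mul_assoc,
        smul_smul, smul_smul, mul_comm k₂, sub_self]
    have hz' : tm 1 (k₂ • sk s x v - k₁ • sk s x w) = (0 : Module.End F (Fin 3 × Fin 3 → F)) :=
      LinearMap.ext fun p => act_injective g (LinearMap.congr_fun hz p)
    have e5 := congrArg (cu b u) (LinearMap.congr_fun hz' (ten u w))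
    simp [sk_apply, hs.zy, hs.yy, hvw, hb.uu, hwx] at e5
    have hk : k₁ = 0 ∧ k₂ = 0 := by
      have a1 := congrArg (s x) e5
      have a2 := congrArg (s v) e5
      simp [hs.zz, hs.zy, hs.zu, hvx, hvw, hs.uu, hb.uu, hwx, hs.yu] at a1 a2
      exact ⟨a1, a2⟩
    have : tm 1 (sk s x v) = (0 : Module.End F (Fin 3 × Fin 3 → F)) :=
      LinearMap.ext fun p => act_injective g (by
        have := LinearMap.congr_fun e₁ p
        rw [p1, hk₁, hk.1, zero_smul, tm_zero_left, tm_zero_right, add_zero, zero_mul] at this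
        simpa using this)
    have e6 := congrArg (cu b u) (LinearMap.congr_fun this (ten u w))
    simp [sk_apply, hs.zy, hvw, hb.uu, hwx] at e6
    exact hs.ne.2.1 e6
  -- the square has range in a singular block
  have hl2 : ∀ p, ∃ f', tm (l * l) 1 p = ten z f' := fun p => by
    refine ⟨-(b u u) • cu b z p, ?_⟩
    have := Tensor.map_ext (S := tm (l * l) 1) (T := -(b u u) • (tenL (F := F) (β := Fin 3) z ∘ₗ (cu b z : (Fin 3 × Fin 3 → F) →ₗ[F] (Fin 3 → F)))) fun a f => by
      rw [tm_ten, LinearMap.smul_apply, LinearMap.comp_apply, tenL_apply, cu_ten, ten_smul_right,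
        Module.End.mul_apply, Module.End.one_apply, ← hb.decomp hT.left a]
      simp [hlz, hlu, hly, hb.zz, hb.zu, hb.zy, ten_smul_left, ten_smul_right, smul_smul, mul_comm, ← neg_smul]
    rw [LinearMap.congr_fun this p]
    simp [tenL_apply, ten_smul_right, ← neg_smul]
  have hl20 : tm (l * l) 1 (ten y u) ≠ (0 : Fin 3 × Fin 3 → F) := fun e => by
    rw [tm_ten, Module.End.mul_apply, hly, hlu, Module.End.one_apply, ten_smul_left, smul_eq_zero,
      neg_eq_zero] at e
    rcases ten_eq_zero (e.resolve_left hb.uu) with h | h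
    · exact hb.ne.1 h
    · exact hb.ne.2.1 h
  have back : ∀ (R : Module.End F (Fin 3 × Fin 3 → F)), act g * tm (l * l) 1 = R * act g → ∀ p,
      ∃ f', act g⁻¹ (R p) = ten z f' := fun R e p => by
    obtain ⟨f', hf'⟩ := hl2 (act g⁻¹ p)
    refine ⟨f', ?_⟩
    conv_lhs => rw [← act_apply_inv g p, ← Module.End.mul_apply R, ← e, Module.End.mul_apply, act_inv_apply, hf']
  have ell := conj2 el el
  rw [tm_mul, one_mul] at ell
  rcases dich with rfl | rfl
  · rw [tm_zero_left, zero_add, tm_mul, one_mul] at ell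
    obtain ⟨r, hr⟩ : ∃ r, (Q * Q) r ≠ 0 := by
      by_contra hall
      push Not at hall
      rw [show Q * Q = 0 from LinearMap.ext hall, tm_zero_right, zero_mul] at ell
      exact hl20 (act_injective g (by simpa using LinearMap.congr_fun ell (ten y u)))
    refine Or.inr (map_into' hC (M.inv_mem hg) hb.ne.1 hb.zz hr fun a => ?_)
    obtain ⟨f', hf'⟩ := back _ ell (ten a r)
    exact ⟨f', by rw [← hf', tm_ten, Module.End.one_apply]⟩
  · rw [tm_zero_right, add_zero, tm_mul, one_mul] at ell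
    obtain ⟨r, hr⟩ : ∃ r, (P * P) r ≠ 0 := by
      by_contra hall
      push Not at hall
      rw [show P * P = 0 from LinearMap.ext hall, tm_zero_left, zero_mul] at ell
      exact hl20 (act_injective g (by simpa using LinearMap.congr_fun ell (ten y u)))
    refine Or.inl (map_into hC.hG (M.inv_mem hg) hb.ne.1 hb.zz hr fun f => ?_)
    obtain ⟨f', hf'⟩ := back _ ell (ten r f)
    exact ⟨f', by rw [← hf', tm_ten, Module.End.one_apply]⟩

theorem inW_of_pres [Finite F] (hC : Ctx B b s M) {g : GL (Fin 3 × Fin 3) F} (hg : g ∈ M)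
    (hp : Pres b s B g) : InW g := by
  simpa using inW_inv_of_pres hC (M.inv_mem hg) hp.inv

end CfsgLib.Geo.TensorSq
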