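/-
`O_3 ⊗ O_3`: unipotent elements of one factor have no conjugates in the stabiliser from outside.
-/
import Cfsg.Agent.Geo.TensorSq.Four

set_option autoImplicit false
set_option linter.unusedSectionVars false
set_option linter.unusedSimpArgs false

namespace CfsgLib.Geo.TensorSq

open Matrix CfsgLib.Geo CfsgLib.Geo.Tensor CfsgLib.Geo.TensorO CfsgLib.Geo.TensorSp CfsgLib.Geo.TensorOO

variable {F : Type*} [Field F] {B : LinearMap.BilinForm F (Fin 3 × Fin 3 → F)}
  {b s : LinearMap.BilinForm F (Fin 3 → F)} {M : Subgroup (GL (Fin 3 × Fin 3) F)}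

/-- The exponential of a pair of commuting nilpotent maps, minus one. -/
def expE {A : Type*} [Ring A] [Algebra F A] (X Y : A) (t : F) : A :=
  (1 + t • X + (2⁻¹ * t ^ 2) • X ^ 2) * (1 + t • Y + (2⁻¹ * t ^ 2) • Y ^ 2) - 1

theorem expE_eq {R : Type*} [CommRing R] [Algebra F R] (X Y : R) (t : F) :
    expE X Y t = expTwo (algebraMap F R 2⁻¹) X Y (algebraMap F R t) := by
  simp only [expE, expTwo, Algebra.smul_def, map_mul, map_pow]

/-- The identities in a noncommutative algebra. -/
theorem identities {A : Type*} [Ring A] [Algebra F A] (X Y : A) (hc : Commute X Y) (hX : X ^ 3 = 0) (hY : Y ^ 3 = 0) :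
    X * expE X Y (1 : F) ^ 3 = (3 : F) • (X ^ 2 * Y ^ 2) ∧
    ((3 : F) = 0 → ∀ t : F, expE X Y t * expE X Y (1 : F) ^ 2 = 0) ∧
    (∀ t : F, X * Y ^ 2 * expE X Y t = t • (X ^ 2 * Y ^ 2)) ∧
    (∀ t : F, Y ^ 2 * expE X Y t = t • (X * Y ^ 2) + (t ^ 2 * 2⁻¹) • (X ^ 2 * Y ^ 2)) ∧
    ∀ t : F, Y * expE X Y t = t • (X * Y + Y ^ 2) + t ^ 2 • ((2⁻¹ : F) • (X ^ 2 * Y) + X * Y ^ 2)
      + (t ^ 3 * 2⁻¹) • (X ^ 2 * Y ^ 2) := by
  have hcomm : ∀ a ∈ ({X, Y} : Set A), ∀ c ∈ ({X, Y} : Set A), a * c = c * a := by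
    rintro a (rfl | rfl) c (rfl | rfl)
    exacts [rfl, hc.eq, hc.eq.symm, rfl]
  letI : CommRing (Algebra.adjoin F ({X, Y} : Set A)) := Algebra.adjoinCommRingOfComm F hcomm
  obtain ⟨X', hX'⟩ : ∃ X' : Algebra.adjoin F ({X, Y} : Set A), (X' : A) = X :=
    ⟨⟨X, Algebra.subset_adjoin (Or.inl rfl)⟩, rfl⟩
  obtain ⟨Y', hY'⟩ : ∃ Y' : Algebra.adjoin F ({X, Y} : Set A), (Y' : A) = Y :=
    ⟨⟨Y, Algebra.subset_adjoin (Or.inr rfl)⟩, rfl⟩
  have eX : X' ^ 3 = 0 := Subtype.ext (by simpa [hX'] using hX)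
  have eY : Y' ^ 3 = 0 := Subtype.ext (by simpa [hY'] using hY)
  have sm : ∀ (c : F) (r : Algebra.adjoin F ({X, Y} : Set A)), algebraMap F _ c * r = c • r :=
    fun c r => (Algebra.smul_def c r).symm
  have val : ∀ t : F, ((expE X' Y' t : Algebra.adjoin F ({X, Y} : Set A)) : A) = expE X Y t := fun t => by
    simp [expE, hX', hY']
  refine ⟨?_, fun h3 t => ?_, fun t => ?_, fun t => ?_, fun t => ?_⟩
  · have := congrArg Subtype.val (cube (algebraMap F _ (2⁻¹ : F)) X' Y' eX eY)
    rw [← map_one (algebraMap F (Algebra.adjoin F ({X, Y} : Set A))), ← expE_eq,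
      show (3 : Algebra.adjoin F ({X, Y} : Set A)) = algebraMap F _ (3 : F) from (map_ofNat (algebraMap F _) 3).symm,
      sm] at this
    simpa [val, hX', hY'] using this
  · have h2 : (2⁻¹ : F) = -1 := by
      have h2 : (2 : F) ≠ 0 := fun h => one_ne_zero (α := F) (by linear_combination h3 - h)
      field_simp
      linear_combination h3
    have := congrArg Subtype.val (absorb (algebraMap F _ (2⁻¹ : F)) X' Y' eX eY
      (by rw [← map_ofNat (algebraMap F _) 3, h3, map_zero]) (by rw [h2, map_neg, map_one]) (algebraMap F _ t))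
    rw [← map_one (algebraMap F (Algebra.adjoin F ({X, Y} : Set A))), ← expE_eq, ← expE_eq] at this
    simpa [val, hX', hY'] using this
  · have := congrArg Subtype.val (ext₁ (algebraMap F _ (2⁻¹ : F)) X' Y' eX eY (algebraMap F _ t))
    rw [← expE_eq, sm] at this
    simpa [val, hX', hY'] using this
  · have := congrArg Subtype.val (ext₂ (algebraMap F _ (2⁻¹ : F)) X' Y' eX eY (algebraMap F _ t))
    rw [← expE_eq, ← map_pow, sm, sm, sm, smul_smul] at this
    simpa [val, hX', hY'] using this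
  · have := congrArg Subtype.val (ext₃ (algebraMap F _ (2⁻¹ : F)) X' Y' eX eY (algebraMap F _ t))
    rw [← expE_eq, ← map_pow, ← map_pow, sm, sm, sm, sm, sm, smul_smul] at this
    simpa [val, hX', hY'] using this

theorem tm_pow (P Q : Module.End F (Fin 3 → F)) (k : ℕ) : tm P Q ^ k = tm (P ^ k) (Q ^ k) := by
  induction k with
  | zero => simp [tm_one]
  | succ k ih => rw [pow_succ, ih, tm_mul, ← pow_succ, ← pow_succ]

theorem tm_eq_zero {P Q : Module.End F (Fin 3 → F)} (h : tm P Q = 0) : P = 0 ∨ Q = 0 := by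
  by_contra hne
  push Not at hne
  obtain ⟨u, hu⟩ : ∃ u, P u ≠ 0 := by
    by_contra hh; push Not at hh; exact hne.1 (LinearMap.ext hh)
  obtain ⟨f, hf⟩ : ∃ f, Q f ≠ 0 := by
    by_contra hh; push Not at hh; exact hne.2 (LinearMap.ext hh)
  have := LinearMap.congr_fun h (ten u f)
  rw [tm_ten] at this
  exact (ten_eq_zero this).elim hu hf

/-- A family conjugate into one root group of a factor. -/
theorem no_mixed [Finite F] (hC : Ctx B b s M) (hq : 5 ≤ Nat.card F) {g : GL (Fin 3 × Fin 3) F} (hg : g ∈ M)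
    {z u y : Fin 3 → F} (hb : Fr b z u y) {t : F} (ht : t ≠ 0) {E : GL (Fin 3 × Fin 3) F}
    (hE : act E = tm (ek b z (t • u)) 1) {n₁ n₂ : Module.End F (Fin 3 → F)} (hn₁ : IsSkew b n₁)
    (hn₂ : IsSkew s n₂) (k₁ : n₁ ^ 3 = 0) (k₂ : n₂ ^ 3 = 0)
    (hv : act (g⁻¹ * E * g) = tm (1 + n₁ + (2⁻¹ : F) • n₁ ^ 2) (1 + n₂ + (2⁻¹ : F) • n₂ ^ 2))
    (hsq : act E - 1 ≠ 0) (hcube : (act E - 1) ^ 3 = 0) : n₁ = 0 ∨ n₂ = 0 := by
  by_contra hne
  push Not at hne
  have hT := hC.hG.hT
  have h2 : (2 : F) ≠ 0 := hT.two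
  haveI : NeZero (2 : F) := ⟨h2⟩
  set X := tm n₁ (1 : Module.End F (Fin 3 → F)) with hX
  set Y := tm (1 : Module.End F (Fin 3 → F)) n₂ with hY
  have hXY : Commute X Y := by show X * Y = Y * X; rw [hX, hY, tm_mul, tm_mul, one_mul, mul_one, one_mul, mul_one]
  have x3 : X ^ 3 = 0 := by rw [hX, tm_pow, k₁, tm_zero_left]
  have y3 : Y ^ 3 = 0 := by rw [hY, tm_pow, k₂, tm_zero_right]
  obtain ⟨icube, iabs, i1, i2, i3⟩ := identities (F := F) X Y hXY x3 y3
  have hXX : X ^ 2 * Y ^ 2 ≠ 0 := fun e => by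
    rw [hX, hY, tm_pow, tm_pow, one_pow, tm_mul, mul_one, one_mul] at e
    rcases tm_eq_zero e with e | e
    · exact hne.1 (hn₁.eq_zero_of_sq hT.left (by rw [← pow_two, e]))
    · exact hne.2 (hn₂.eq_zero_of_sq hT.right (by rw [← pow_two, e]))
  have hexp : ∀ r : F, expE X Y r
      = tm (1 + r • n₁ + (2⁻¹ * r ^ 2) • n₁ ^ 2) (1 + r • n₂ + (2⁻¹ * r ^ 2) • n₂ ^ 2) - 1 := fun r => by
    rw [expE, hX, hY, tm_pow, tm_pow, one_pow, ← tm_smul_left, ← tm_smul_left, ← tm_smul_right,
      ← tm_smul_right, ← tm_one, ← tm_add_left, ← tm_add_left, ← tm_add_right, ← tm_add_right, tm_mul, mul_one,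
      one_mul]
  have hv1 : act (g⁻¹ * E * g) - 1 = expE X Y (1 : F) := by rw [hexp, hv]; simp
  have hgg : act g * act g⁻¹ = 1 := by rw [← act_mul, mul_inv_cancel, act_one]
  have hgg' : act g⁻¹ * act g = 1 := by rw [← act_mul, inv_mul_cancel, act_one]
  have hconj : ∀ k : ℕ, (act (g⁻¹ * E * g) - 1) ^ k = act g⁻¹ * (act E - 1) ^ k * act g := fun k => by
    induction k with
    | zero => simp [hgg']
    | succ k ih =>
      have e1 : act (g⁻¹ * E * g) - 1 = act g⁻¹ * (act E - 1) * act g := by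
        rw [act_mul, act_mul, mul_sub, sub_mul, mul_one, hgg']
      rw [pow_succ, ih, e1, pow_succ (act E - 1)]
      simp only [mul_assoc]
      rw [← mul_assoc (act g) (act g⁻¹), hgg, one_mul]
  have h3 : (3 : F) = 0 := by
    have e := icube
    rw [← hv1, hconj, hcube, mul_zero, zero_mul, mul_zero] at e
    exact (smul_eq_zero.1 e.symm).resolve_right hXX
  -- the conjugates fix the block pointwise
  have hEsq : ∀ f, ∃ p, ((act E - 1) ^ 2 : Module.End F (Fin 3 × Fin 3 → F)) p = ten z f := fun f => by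
    refine ⟨(-(t ^ 2 * b u u))⁻¹ • ten y f, ?_⟩
    rw [map_smul, pow_two (act E - 1), Module.End.mul_apply, LinearMap.sub_apply, LinearMap.sub_apply, Module.End.one_apply,
      Module.End.one_apply, hE, tm_ten, Module.End.one_apply, ← ten_sub_left, tm_ten, Module.End.one_apply,
      ← ten_sub_left, ek_sub_sq hT.left hb.zz (by rw [map_smul, hb.zu, smul_zero]), ← ten_smul_left, smul_smul,
      hb.zy]
    have hu0 := hb.uu
    rw [show (-(t ^ 2 * b u u))⁻¹ * -(b (t • u) (t • u) * 1) = 1 by simp; field_simp, one_smul]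
  have fam : ∀ r : F, ∃ α : F, act g * (expE X Y r + 1) * act g⁻¹ = tm (ek b z (α • u)) 1 := by
    intro r
    obtain ⟨w, hw, hwX, hwa⟩ := hC.hG.hM.tm_sq hT (1 + (r / 2) • n₁ + (2⁻¹ * (r / 2) ^ 2) • n₁ ^ 2)
      (1 + (r / 2) • n₂ + (2⁻¹ * (r / 2) ^ 2) • n₂ ^ 2) (exp_iso hT.left hn₁ k₁ _) (exp_iso hT.right hn₂ k₂ _)
    rw [exp_mul h2 k₁, exp_mul h2 k₂, add_halves] at hwa
    have hwe : act w = expE X Y r + 1 := by rw [hexp, hwa]; abel
    have hfix : ∀ f, act (g * w * g⁻¹) (ten z f) = ten z f := fun f => by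
      obtain ⟨p, hp⟩ := hEsq f
      have e := LinearMap.congr_fun (iabs h3 r) (act g⁻¹ p)
      rw [← hv1, hconj, Module.End.mul_apply, Module.End.mul_apply, Module.End.mul_apply, act_apply_inv, hp,
        LinearMap.zero_apply] at e
      rw [act_mul, act_mul, Module.End.mul_apply, Module.End.mul_apply, hwe, LinearMap.add_apply, e, zero_add,
        Module.End.one_apply, act_apply_inv]
    obtain ⟨w', hw', hw'X, hw'a⟩ := hC.hG.hM.tm_sq hT (1 + (r / 4) • n₁ + (2⁻¹ * (r / 4) ^ 2) • n₁ ^ 2)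
      (1 + (r / 4) • n₂ + (2⁻¹ * (r / 4) ^ 2) • n₂ ^ 2) (exp_iso hT.left hn₁ k₁ _) (exp_iso hT.right hn₂ k₂ _)
    rw [exp_mul h2 k₁, exp_mul h2 k₂, show r / 4 + r / 4 = r / 2 by
      rw [← two_mul, show (4 : F) = 2 * 2 by norm_num]; field_simp] at hw'a
    -- the half also fixes the block
    have hwe' : act w' = expE X Y (r / 2) + 1 := by rw [hexp, hw'a]; abel
    have hfix' : ∀ f, act (g * w' * g⁻¹) (ten z f) = ten z f := fun f => by
      obtain ⟨p, hp⟩ := hEsq f
      have e := LinearMap.congr_fun (iabs h3 (r / 2)) (act g⁻¹ p)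
      rw [← hv1, hconj, Module.End.mul_apply, Module.End.mul_apply, Module.End.mul_apply, act_apply_inv, hp,
        LinearMap.zero_apply] at e
      rw [act_mul, act_mul, Module.End.mul_apply, Module.End.mul_apply, hwe', LinearMap.add_apply, e, zero_add,
        Module.End.one_apply, act_apply_inv]
    have hmem : g * w' * g⁻¹ ∈ M := M.mul_mem (M.mul_mem hg hw') (M.inv_mem hg)
    obtain ⟨hkr, hiso⟩ := hC.hG.line hmem hb.ne.1 hb.zz hb.ne.1 hb.zz fun f => ⟨f, hfix' f⟩
    obtain ⟨A, C, hAC⟩ := isK_of_mem_krs hkr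
    obtain ⟨_, f₀, _, hf⟩ := exists_frame' hT.right
    -- normalise
    obtain ⟨c, hc0, hcA⟩ : ∃ c : F, c ≠ 0 ∧ A z = c • z := by
      have e := congrArg (cw s f₀) ((hAC z f₀).symm.trans (hfix' f₀))
      simp at e
      have hne : s f₀ (C f₀) ≠ 0 := fun h0 => by
        rw [h0, zero_smul] at e
        exact hb.ne.1 ((smul_eq_zero.1 e.symm).resolve_left hf.uu)
      exact ⟨s f₀ f₀ / s f₀ (C f₀), div_ne_zero hf.uu hne, by
        rw [div_eq_inv_mul, mul_smul, ← e, smul_smul, inv_mul_cancel₀ hne, one_smul]⟩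
    have hCf : ∀ f, C f = c⁻¹ • f := fun f => by
      have e := congrArg (cu b y) ((hAC z f).symm.trans (hfix' f))
      simp [hcA, hb.zy, (hb.yz hT.left).1] at e
      rw [← e, smul_smul, inv_mul_cancel₀ hc0, one_smul]
      simp [e]
    set A₀ := c⁻¹ • A with hA₀
    have hA₀t : ∀ a f, act (g * w' * g⁻¹) (ten a f) = ten (A₀ a) f := fun a f => by
      rw [hAC, hCf, ten_smul_right, hA₀, LinearMap.smul_apply, ten_smul_left]
    have hAiso : ∀ a a', b (A₀ a) (A₀ a') = b a a' := fun a a' => by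
      have e : B (act (g * w' * g⁻¹) (ten a f₀)) (act (g * w' * g⁻¹) (ten a' f₀)) = B (ten a f₀) (ten a' f₀) := hiso _ _
      rw [hA₀t, hA₀t, hT.pol, hT.pol] at e
      exact mul_right_cancel₀ hf.uu e
    have hA₀z : A₀ z = z := by rw [hA₀, LinearMap.smul_apply, hcA, smul_smul, inv_mul_cancel₀ hc0, one_smul]
    obtain ⟨hyz, huz, huy⟩ := hb.yz hT.left
    have hu0 := hb.uu
    have dz : ∀ a, b z (A₀ a) = b z a := fun a => by
      have := hAiso z a
      rwa [hA₀z] at this
    have du := hb.decomp hT.left (A₀ u)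
    rw [dz, hb.zu, zero_smul, add_zero] at du
    set ε := b u (A₀ u) / b u u with hε
    set γ := b y (A₀ u) with hγ
    have hε2 : ε * ε = 1 := by
      have := hAiso u u
      rw [← du] at this
      simp [hb.zz, huz, hb.zu] at this
      exact mul_right_cancel₀ hu0 (by linear_combination this)
    -- the square
    have hA₁ : act (g * w * g⁻¹) = tm (A₀ * A₀) 1 := by
      have hw2 : act (g * w * g⁻¹) = act (g * w' * g⁻¹) * act (g * w' * g⁻¹) := by
        have : act w = act w' * act w' := by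
          rw [hwa, hw'a, tm_mul, exp_mul h2 k₁, exp_mul h2 k₂, add_halves]
        simp only [act_mul, this, mul_assoc]
        rw [← mul_assoc (act g⁻¹) (act g), hgg', one_mul]
      rw [hw2]
      exact Tensor.map_ext fun a f => by
        rw [Module.End.mul_apply, hA₀t, hA₀t, tm_ten, Module.End.mul_apply, Module.End.one_apply]
    set A₁ := A₀ * A₀ with hA₁d
    have a1z : A₁ z = z := by rw [hA₁d, Module.End.mul_apply, hA₀z, hA₀z]
    have a1i : ∀ a a', b (A₁ a) (A₁ a') = b a a' := fun a a' => by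
      rw [hA₁d, Module.End.mul_apply, Module.End.mul_apply, hAiso, hAiso]
    have a1u : A₁ u = (γ + ε * γ) • z + u := by
      rw [hA₁d, Module.End.mul_apply, ← du, map_add, map_smul, map_smul, hA₀z, ← du, smul_add, smul_smul,
        smul_smul, hε2, one_smul]
      module
    have dy := hb.decomp hT.left (A₁ y)
    have dzy : b z (A₁ y) = 1 := by
      have := a1i z y
      rwa [a1z, hb.zy] at this
    rw [dzy, one_smul] at dy
    set α := b u (A₁ y) / b u u with hα
    set β := b y (A₁ y) with hβ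
    have q1 := a1i u y
    have q2 := a1i y y
    rw [a1u, ← dy] at q1
    rw [← dy] at q2
    simp [hb.zz, hb.zy, hb.zu, hb.yy, hyz, huz, huy, hb.yu] at q1 q2
    refine ⟨α, ?_⟩
    rw [← hwe, ← act_mul, ← act_mul, hA₁]
    congr 1
    refine hb.ext hT.left ?_ ?_ ?_
    · rw [a1z, ek_apply]; simp [hb.zz, huz]
    · rw [a1u, ek_apply, hb.zu, map_smul, LinearMap.smul_apply, smul_eq_mul,
        show γ + ε * γ = -(α * b u u) by linear_combination q1]
      module
    · rw [← dy, ek_apply, hb.zy, map_smul, map_smul, LinearMap.smul_apply, LinearMap.smul_apply, huy, smul_eq_mul,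
        smul_eq_mul, mul_zero, smul_eq_mul,
        show β = -(α * (α * b u u) / 2) by field_simp; linear_combination q2]
      module
  -- three exponentials are dependent
  obtain ⟨e, he0, he1, he2⟩ : ∃ e : F, e ≠ 0 ∧ e ≠ 1 ∧ e ≠ -1 := by
    classical
    haveI := Fintype.ofFinite F
    by_contra hcon
    push Not at hcon
    have hle : Fintype.card F ≤ ({0, 1, -1} : Finset F).card := by
      rw [← Finset.card_univ]
      refine Finset.card_le_card fun x _ => ?_
      simp only [Finset.mem_insert, Finset.mem_singleton]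
      by_cases h : x = 0
      · exact Or.inl h
      · by_cases h' : x = 1
        · exact Or.inr (Or.inl h')
        · exact Or.inr (Or.inr (hcon x h h'))
    have := hle.trans Finset.card_le_three
    rw [Nat.card_eq_fintype_card] at hq
    omega
  set ts : Fin 3 → F := ![1, -1, e] with hts
  choose α hα using fun i => fam (ts i)
  have hlin : ¬ LinearIndependent F (fun i => ((α i, α i ^ 2) : F × F)) := fun h => by
    have := h.fintype_card_le_finrank
    simp at this
  obtain ⟨c, hc, i₀, hi₀⟩ := Fintype.not_linearIndependent_iff.1 hlin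
  have hc1 : ∑ i, c i * α i = 0 := by simpa [Prod.fst_sum] using congrArg Prod.fst hc
  have hc2 : ∑ i, c i * α i ^ 2 = 0 := by simpa [Prod.snd_sum] using congrArg Prod.snd hc
  have hsum : ∑ i, c i • expE X Y (ts i) = 0 := by
    have e0 : ∀ i, act g * expE X Y (ts i) * act g⁻¹ = tm (ek b z (α i • u)) 1 - 1 := fun i => by
      rw [← hα i, mul_add, add_mul, mul_one, hgg, add_sub_cancel_right]
    have e1 : ∑ i, c i • (tm (ek b z (α i • u)) (1 : Module.End F (Fin 3 → F)) - 1) = 0 := by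
      have key : ∀ r : F, tm (ek b z (r • u)) (1 : Module.End F (Fin 3 → F)) - 1
          = r • tm ((b z).smulRight u - (b u).smulRight z) 1
            - r ^ 2 • tm ((b z).smulRight ((b u u / 2) • z)) 1 := fun r => by
        rw [← tm_smul_left, ← tm_smul_left, ← tm_sub_left, ← tm_one, ← tm_sub_left]
        congr 1
        refine LinearMap.ext fun f => ?_
        simp [ek_apply, smul_smul]
        match_scalars <;> ring
      simp only [key, smul_sub, smul_smul, Finset.sum_sub_distrib, ← Finset.sum_smul, hc1, hc2, zero_smul, sub_zero]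
    have e2 : act g * (∑ i, c i • expE X Y (ts i)) * act g⁻¹ = 0 := by
      rw [Finset.mul_sum, Finset.sum_mul, ← e1]
      exact Finset.sum_congr rfl fun i _ => by rw [mul_smul_comm, smul_mul_assoc, e0]
    have := congrArg (fun S => act g⁻¹ * S * act g) e2
    simpa [← mul_assoc, hgg', mul_assoc _ (act g⁻¹) (act g)] using this
  have s1 : ∑ i, c i * ts i = 0 := by
    have := congrArg (fun S => X * Y ^ 2 * S) hsum
    simp only [Finset.mul_sum, mul_smul_comm, i1, smul_smul, ← Finset.sum_smul, mul_zero] at this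
    exact (smul_eq_zero.1 this).resolve_right hXX
  have s2 : ∑ i, c i * ts i ^ 2 = 0 := by
    have := congrArg (fun S => Y ^ 2 * S) hsum
    simp only [Finset.mul_sum, mul_smul_comm, i2, smul_add, smul_smul, Finset.sum_add_distrib, ← Finset.sum_smul,
      mul_zero, ← mul_assoc, ← Finset.sum_mul, s1, zero_smul, zero_add] at this
    exact (mul_eq_zero.1 ((smul_eq_zero.1 this).resolve_right hXX)).resolve_right (inv_ne_zero h2)
  have s3 : ∑ i, c i * ts i ^ 3 = 0 := by
    have := congrArg (fun S => Y * S) hsum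
    simp only [Finset.mul_sum, mul_smul_comm, i3, smul_add, smul_smul, Finset.sum_add_distrib, ← Finset.sum_smul,
      mul_zero, ← mul_assoc, ← Finset.sum_mul, s1, s2, zero_smul, zero_add, zero_mul] at this
    exact (mul_eq_zero.1 ((smul_eq_zero.1 this).resolve_right hXX)).resolve_right (inv_ne_zero h2)
  simp [hts, Fin.sum_univ_three] at s1 s2 s3
  have c2 : c 2 = 0 := by
    have : c 2 * (e * (e - 1) * (e + 1)) = 0 := by linear_combination s3 - s1
    exact (mul_eq_zero.1 this).resolve_right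
      (mul_ne_zero (mul_ne_zero he0 (sub_ne_zero.2 he1)) (fun h => he2 (eq_neg_of_add_eq_zero_left h)))
  rw [c2] at s1 s2
  have c0 : c 0 = 0 := (mul_eq_zero.1 (show (2 : F) * c 0 = 0 by linear_combination s1 + s2)).resolve_left h2
  have c1 : c 1 = 0 := by rw [c0] at s2; simpa using s2
  fin_cases i₀ <;> first | exact hi₀ c0 | exact hi₀ c1 | exact hi₀ c2

/-- Non-trivial elements of a root group of a factor are conjugated into the stabiliser only from inside. -/
theorem semiregular [Finite F] (hC : Ctx B b s M) (hq : 5 ≤ Nat.card F) {g : GL (Fin 3 × Fin 3) F} (hg : g ∈ M)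
    {z u y : Fin 3 → F} (hb : Fr b z u y) {t : F} (ht : t ≠ 0) {E : GL (Fin 3 × Fin 3) F}
    (hE : act E = tm (ek b z (t • u)) 1) (hW : InW (g⁻¹ * E * g)) : InW g := by
  have hT := hC.hG.hT
  have h2 : (2 : F) ≠ 0 := hT.two
  have hu0 := hb.uu
  obtain ⟨p, hp⟩ := CharP.exists F
  haveI := hp
  haveI hpp : Fact p.Prime := ⟨CharP.char_is_prime F p⟩
  haveI : CharP (Module.End F (Fin 3 × Fin 3 → F)) p :=
    charP_of_injective_algebraMap (algebraMap F (Module.End F (Fin 3 × Fin 3 → F))).injective p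
  haveI : CharP (Module.End F (Fin 3 → F)) p :=
    charP_of_injective_algebraMap (algebraMap F (Module.End F (Fin 3 → F))).injective p
  have hp2 : p ≠ 2 := fun e => h2 (by rw [← Nat.cast_two, ← e, CharP.cast_eq_zero])
  have hp3 : 3 ≤ p := by have := hpp.out.two_le; omega
  have hpodd : Odd p := hpp.out.odd_of_ne_two hp2
  have htu : b z (t • u) = 0 := by rw [map_smul, hb.zu, smul_zero]
  have hE1 : act E - 1 = tm (ek b z (t • u) - 1) 1 := by rw [hE, tm_sub_left, tm_one]
  have hd2 : ∀ f, ((ek b z (t • u) - 1) ^ 2 : Module.End F (Fin 3 → F)) f = -(t * t * b u u * b z f) • z :=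
    fun f => by
      rw [pow_two]
      simp only [Module.End.mul_apply, LinearMap.sub_apply, Module.End.one_apply]
      rw [ek_sub_sq hT.left hb.zz htu]
      congr 1
      simp only [map_smul, LinearMap.smul_apply, smul_eq_mul]; ring
  have hcube : (act E - 1) ^ 3 = 0 := by
    rw [hE1, tm_pow, one_pow, show (ek b z (t • u) - 1) ^ 3 = (0 : Module.End F (Fin 3 → F)) from
      LinearMap.ext fun f => by
        rw [pow_succ' _ 2, Module.End.mul_apply, hd2, map_smul, LinearMap.sub_apply, Module.End.one_apply, ek_fix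
          hb.zz (by rw [map_smul, LinearMap.smul_apply, (hb.yz hT.left).2.1, smul_zero]), sub_self, smul_zero]
        rfl, tm_zero_left]
  have hsq2 : (act E - 1) ^ 2 ≠ 0 := fun e => by
    rw [hE1, tm_pow, one_pow] at e
    rcases tm_eq_zero e with e | e
    · have := LinearMap.congr_fun e y
      rw [hd2, hb.zy, mul_one, LinearMap.zero_apply] at this
      exact hb.ne.1 ((smul_eq_zero.1 this).resolve_left (neg_ne_zero.2 (mul_ne_zero (mul_ne_zero ht ht) hu0)))
    · exact one_ne_zero e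
  have hsq : act E - 1 ≠ 0 := fun e => hsq2 (by rw [e]; simp)
  have hEp : act E ^ p = 1 := by
    have e : (act E - 1) ^ p = 0 := pow_eq_zero_of_le hp3 hcube
    rwa [sub_pow_char_of_commute p (Commute.one_right _), one_pow, sub_eq_zero] at e
  have hgg : act g * act g⁻¹ = 1 := by rw [← act_mul, mul_inv_cancel, act_one]
  have hgg' : act g⁻¹ * act g = 1 := by rw [← act_mul, inv_mul_cancel, act_one]
  set v := g⁻¹ * E * g with hv
  have hconj : ∀ k : ℕ, act v ^ k = act g⁻¹ * act E ^ k * act g := fun k => by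
    induction k with
    | zero => simp [hgg']
    | succ k ih =>
      rw [pow_succ, ih, pow_succ (act E), hv, act_mul, act_mul]
      simp only [mul_assoc]
      rw [← mul_assoc (act g) (act g⁻¹), hgg, one_mul]
  have hvp : act v ^ p = 1 := by rw [hconj, hEp, mul_one, hgg']
  have hvK : IsK v := by
    obtain ⟨k, hk⟩ := hpodd
    have hvv := (InW.sq hW).mem_krs
    have hap : ∀ n : ℕ, act (v ^ n) = act v ^ n := fun n => by
      induction n with
      | zero => simp [act_one]
      | succ n ih => rw [pow_succ, act_mul, ih, pow_succ]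
    have hvp' : v ^ p = 1 := act_inj (by rw [hap, hvp, act_one])
    refine isK_of_mem_krs ?_
    have : v = (v * v) ^ (k + 1) := by
      rw [← pow_two, ← pow_mul, show 2 * (k + 1) = p + 1 by omega, pow_succ, hvp', one_mul]
    rw [this]
    exact pow_mem hvv _
  obtain ⟨A, C, hAC⟩ := hvK
  have hvt : act v = tm A C := Tensor.map_ext fun a f => by rw [hAC, tm_ten]
  obtain ⟨_, f₀, _, hf⟩ := exists_frame' hT.right
  obtain ⟨_, u₀, _, hu⟩ := exists_frame' hT.left
  have hpow : tm (A ^ p) (C ^ p) = 1 := by rw [← tm_pow, ← hvt, hvp]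
  have hdot : ∀ a f, ten ((A ^ p) a) ((C ^ p) f) = ten a f := fun a f => by
    rw [← tm_ten, hpow, Module.End.one_apply]
  have hcne : s f₀ ((C ^ p) f₀) ≠ 0 := fun h0 => by
    have := congrArg (cw s f₀) (hdot u₀ f₀)
    rw [cw_ten, cw_ten, h0, zero_smul] at this
    exact hu.ne.2.1 ((smul_eq_zero.1 this.symm).resolve_left hf.uu)
  set lam := s f₀ f₀ / s f₀ ((C ^ p) f₀) with hlam
  have hAp : A ^ p = lam • (1 : Module.End F (Fin 3 → F)) := LinearMap.ext fun a => by
    have := congrArg (cw s f₀) (hdot a f₀)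
    rw [cw_ten, cw_ten] at this
    rw [LinearMap.smul_apply, Module.End.one_apply, hlam, div_eq_inv_mul, mul_smul, ← this, smul_smul,
      inv_mul_cancel₀ hcne, one_smul]
  have hlam0 : lam ≠ 0 := div_ne_zero hf.uu hcne
  obtain ⟨ρ, hρ⟩ := surjective_frobenius F p lam
  rw [frobenius_def] at hρ
  have hρ0 : ρ ≠ 0 := fun e => hlam0 (by rw [← hρ, e, zero_pow hpp.out.ne_zero])
  set A' := ρ⁻¹ • A with hA'
  set C' := ρ • C with hC'
  have hvt' : act v = tm A' C' := by
    rw [hA', hC', tm_smul_left, tm_smul_right, smul_smul, inv_mul_cancel₀ hρ0, one_smul, hvt]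
  have hA'p : A' ^ p = 1 := by
    rw [hA', smul_pow, hAp, smul_smul, ← hρ, inv_pow, inv_mul_cancel₀ (pow_ne_zero _ hρ0), one_smul]
  have hC'p : C' ^ p = 1 := by
    have e : tm (A' ^ p) (C' ^ p) = 1 := by rw [← tm_pow, ← hvt', hvp]
    rw [hA'p] at e
    refine LinearMap.ext fun f => ?_
    have := congrArg (cu b u₀) (LinearMap.congr_fun e (ten u₀ f))
    simpa [hu.uu] using this
  have hvM : v ∈ iso B := by
    obtain ⟨E', hE', -, hE'a⟩ := hC.hG.hM.ekL hT hb.zz htu
    rw [show E = E' from act_inj (hE.trans hE'a.symm)] at hv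
    exact hC.hG.hM.sub (hv ▸ M.mul_mem (M.mul_mem (M.inv_mem hg) hE') hg)
  obtain ⟨μ, hμ, hμA, hμC⟩ := exists_mult hT (b₁ := b) (s₁ := s) hT.left hT.right (A := A') (C := C')
    fun a a' f f' => by
      rw [← hT.pol, ← hT.pol, ← tm_ten, ← tm_ten A' C', ← hvt']
      exact hvM _ _
  have hμp : ∀ k : ℕ, ∀ a a', b ((A' ^ k) a) ((A' ^ k) a') = μ ^ k * b a a' := fun k => by
    induction k with
    | zero => simp
    | succ k ih => intro a a'; rw [pow_succ, Module.End.mul_apply, Module.End.mul_apply, ih, hμA, pow_succ]; ring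
  have hμ1 : μ = 1 := by
    have e := hμp p u₀ u₀
    rw [hA'p, Module.End.one_apply] at e
    have : μ ^ p = 1 := mul_right_cancel₀ hu.uu (by rw [one_mul]; exact e.symm)
    exact frobenius_inj F p (by rw [frobenius_def, frobenius_def, this, one_pow])
  have hiA : ∀ a a', b (A' a) (A' a') = b a a' := fun a a' => by rw [hμA, hμ1, one_mul]
  have hiC : ∀ a a', s (C' a) (C' a') = s a a' := fun a a' => by rw [hμC, hμ1, inv_one, one_mul]
  have nil : ∀ P : Module.End F (Fin 3 → F), P ^ p = 1 → (P - 1) ^ 3 = 0 := fun P hP => by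
    have e : (P - 1) ^ p = 0 := by rw [sub_pow_char_of_commute p (Commute.one_right _), hP, one_pow, sub_self]
    have := Module.End.ker_pow_le_ker_pow_finrank (P - 1) p
    rw [e, LinearMap.ker_zero, Module.finrank_fin_fun, top_le_iff, LinearMap.ker_eq_top] at this
    exact this
  obtain ⟨n₁, hn₁, k₁, e₁⟩ := exists_log hT.left hiA (nil A' hA'p)
  obtain ⟨n₂, hn₂, k₂, e₂⟩ := exists_log hT.right hiC (nil C' hC'p)
  have hv' : act (g⁻¹ * E * g) = tm (1 + n₁ + (2⁻¹ : F) • n₁ ^ 2) (1 + n₂ + (2⁻¹ : F) • n₂ ^ 2) := by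
    rw [← hv, hvt', e₁, e₂]
  have hsqc : (act v - 1) ^ 2 = act g⁻¹ * (act E - 1) ^ 2 * act g := by
    have e1 : act v - 1 = act g⁻¹ * (act E - 1) * act g := by
      rw [hv, act_mul, act_mul, mul_sub, sub_mul, mul_one, hgg']
    rw [pow_two, e1, pow_two]
    simp only [mul_assoc]
    rw [← mul_assoc (act g) (act g⁻¹), hgg, one_mul]
  have hne2 : (act v - 1) ^ 2 ≠ 0 := fun e => hsq2 (by
    have := congrArg (fun S => act g * S * act g⁻¹) (hsqc.symm.trans e)
    simpa [← mul_assoc, hgg, mul_assoc _ (act g) (act g⁻¹)] using this)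
  have into : ∀ x, ∃ f', act g (((act v - 1) ^ 2 : Module.End F (Fin 3 × Fin 3 → F)) x) = ten z f' := fun x => by
    refine ⟨-(t * t * b u u) • cu b z (act g x), ?_⟩
    rw [hsqc, Module.End.mul_apply, Module.End.mul_apply, act_apply_inv, hE1, tm_pow, one_pow]
    have := Tensor.map_ext (S := tm ((ek b z (t • u) - 1) ^ 2) 1)
      (T := -(t * t * b u u) • (tenL (F := F) (β := Fin 3) z ∘ₗ (cu b z : (Fin 3 × Fin 3 → F) →ₗ[F] (Fin 3 → F))))
      fun a f => by
        rw [tm_ten, hd2, Module.End.one_apply, LinearMap.smul_apply, LinearMap.comp_apply, tenL_apply, cu_ten,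
          ten_smul_left, ten_smul_right, smul_smul]
        congr 1
        ring
    rw [LinearMap.congr_fun this, LinearMap.smul_apply, LinearMap.comp_apply, tenL_apply, ten_smul_right]
  rcases no_mixed hC hq hg hb ht hE hn₁ hn₂ k₁ k₂ hv' hsq hcube with h0 | h0
  · have hA1 : A' = 1 := by rw [e₁, h0]; simp
    have hsv : (act v - 1) ^ 2 = tm 1 ((C' - 1) ^ 2) := by
      rw [hvt', hA1, ← tm_one, ← tm_sub_right, tm_pow, one_pow]
    obtain ⟨r, hr⟩ : ∃ r, ((C' - 1) ^ 2 : Module.End F (Fin 3 → F)) r ≠ 0 := by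
      by_contra hall; push Not at hall
      exact hne2 (by rw [hsv, show (C' - 1) ^ 2 = 0 from LinearMap.ext hall, tm_zero_right])
    refine Or.inr (map_into' hC hg hb.ne.1 hb.zz hr fun a => ?_)
    obtain ⟨f', hf'⟩ := into (ten a r)
    exact ⟨f', by rw [← hf', hsv, tm_ten, Module.End.one_apply]⟩
  · have hC1 : C' = 1 := by rw [e₂, h0]; simp
    have hsv : (act v - 1) ^ 2 = tm ((A' - 1) ^ 2) 1 := by
      rw [hvt', hC1, ← tm_one, ← tm_sub_left, tm_pow, one_pow]
    obtain ⟨r, hr⟩ : ∃ r, ((A' - 1) ^ 2 : Module.End F (Fin 3 → F)) r ≠ 0 := by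
      by_contra hall; push Not at hall
      exact hne2 (by rw [hsv, show (A' - 1) ^ 2 = 0 from LinearMap.ext hall, tm_zero_left])
    refine Or.inl (map_into hC.hG hg hb.ne.1 hb.zz hr fun f => ?_)
    obtain ⟨f', hf'⟩ := into (ten r f)
    exact ⟨f', by rw [← hf', hsv, tm_ten, Module.End.one_apply]⟩

end CfsgLib.Geo.TensorSq
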