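/-
`O_3 ⊗ O_3`: the sum of the four-form over the cosets of the stabiliser is the four-form.
-/
import Cfsg.Agent.Geo.TensorSq.Semi

set_option autoImplicit false
set_option linter.unusedSectionVars false
set_option linter.unusedSimpArgs false

namespace CfsgLib.Geo.TensorSq

open Matrix CfsgLib.Geo CfsgLib.Geo.Tensor CfsgLib.Geo.TensorO CfsgLib.Geo.TensorSp CfsgLib.Geo.TensorOO

variable {F : Type*} [Field F] {B : LinearMap.BilinForm F (Fin 3 × Fin 3 → F)}
  {b s : LinearMap.BilinForm F (Fin 3 → F)} {M : Subgroup (GL (Fin 3 × Fin 3) F)}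

/-- Representatives of the orbits of a free action of the additive group of `F`. -/
theorem exists_reps [Fintype F] {S : Type*} [DecidableEq S] (op : F → S → S) (h0 : ∀ x, op 0 x = x)
    (hadd : ∀ t t' x, op (t + t') x = op t (op t' x)) {A : Type*} [AddCommMonoid A] (T : Finset S)
    (hcl : ∀ t, ∀ x ∈ T, op t x ∈ T) (hfree : ∀ t, ∀ x ∈ T, op t x = x → t = 0) :
    ∃ R : Finset S, R ⊆ T ∧ ∀ φ : S → A, ∑ x ∈ T, φ x = ∑ r ∈ R, ∑ t, φ (op t r) := by
  induction T using Finset.strongInduction with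
  | _ T ih =>
    rcases T.eq_empty_or_nonempty with rfl | ⟨x₀, hx₀⟩
    · exact ⟨∅, Finset.Subset.refl _, fun φ => by simp⟩
    set O := Finset.univ.image (fun t => op t x₀) with hO
    have hOT : O ⊆ T := fun x hx => by
      obtain ⟨t, -, rfl⟩ := Finset.mem_image.1 hx
      exact hcl t _ hx₀
    have hx₀O : x₀ ∈ O := Finset.mem_image.2 ⟨0, Finset.mem_univ _, h0 _⟩
    obtain ⟨R, hR, hsum⟩ := ih (T \ O) (Finset.sdiff_ssubset hOT ⟨x₀, hx₀O⟩)
      (fun t x hx => by
        obtain ⟨hxT, hxO⟩ := Finset.mem_sdiff.1 hx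
        refine Finset.mem_sdiff.2 ⟨hcl t x hxT, fun h => hxO ?_⟩
        obtain ⟨t', -, ht'⟩ := Finset.mem_image.1 h
        exact Finset.mem_image.2 ⟨-t + t', Finset.mem_univ _, by rw [hadd, ht', ← hadd, neg_add_cancel, h0]⟩)
      (fun t x hx => hfree t x (Finset.mem_sdiff.1 hx).1)
    have hx₀R : x₀ ∉ R := fun h => (Finset.mem_sdiff.1 (hR h)).2 hx₀O
    refine ⟨insert x₀ R, Finset.insert_subset_iff.2 ⟨hx₀, hR.trans Finset.sdiff_subset⟩, fun φ => ?_⟩
    rw [Finset.sum_insert hx₀R, ← Finset.sum_sdiff hOT, hsum φ, add_comm, hO]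
    congr 1
    refine Finset.sum_image fun t _ t' _ e => ?_
    have e' : op t x₀ = op t' x₀ := e
    have := hfree (-t' + t) x₀ hx₀ (by rw [hadd, e', ← hadd, neg_add_cancel, h0])
    exact (neg_add_eq_zero.1 this).symm

variable (b s B M) in
/-- The members preserving the four-form. -/
def presGroup : Subgroup M where
  carrier := {g | Pres b s B g.1}
  one_mem' := fun x y v w => by simp [act_one]
  mul_mem' := fun hg hh => Pres.mul hg hh
  inv_mem' := fun hg => Pres.inv hg

/-- The four-form moved along a coset. -/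
noncomputable def phi (b s : LinearMap.BilinForm F (Fin 3 → F)) (B : LinearMap.BilinForm F (Fin 3 × Fin 3 → F))
    (M : Subgroup (GL (Fin 3 × Fin 3) F)) (q : M ⧸ presGroup B b s M) (x y v w : Fin 3 × Fin 3 → F) : F :=
  four b s B (act (q.out.1)⁻¹ x) (act (q.out.1)⁻¹ y) (act (q.out.1)⁻¹ v) (act (q.out.1)⁻¹ w)

theorem phi_mk (g : M) (x y v w : Fin 3 × Fin 3 → F) :
    phi b s B M (QuotientGroup.mk g) x y v w
      = four b s B (act g.1⁻¹ x) (act g.1⁻¹ y) (act g.1⁻¹ v) (act g.1⁻¹ w) := by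
  obtain ⟨h, hh⟩ := QuotientGroup.mk_out_eq_mul (presGroup B b s M) g
  unfold phi
  rw [hh, Subgroup.coe_mul, _root_.mul_inv_rev]
  simp only [act_mul, Module.End.mul_apply]
  exact Pres.inv h.2 _ _ _ _

theorem phi_smul (g : M) (q : M ⧸ presGroup B b s M) (x y v w : Fin 3 × Fin 3 → F) :
    phi b s B M (g • q) (act g.1 x) (act g.1 y) (act g.1 v) (act g.1 w) = phi b s B M q x y v w := by
  induction q using QuotientGroup.induction_on with
  | _ h =>
    rw [MulAction.Quotient.smul_mk, phi_mk, phi_mk]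
    simp only [smul_eq_mul, Subgroup.coe_mul, _root_.mul_inv_rev, act_mul, Module.End.mul_apply, act_inv_apply]

theorem four_expand {ι : Type*} [Fintype ι] (g : GL (Fin 3 × Fin 3) F) (a₁ a₂ a₃ a₄ : ι → F)
    (e₁ e₂ e₃ e₄ : ι → (Fin 3 × Fin 3 → F)) :
    four b s B (act g (∑ i, a₁ i • e₁ i)) (act g (∑ i, a₂ i • e₂ i)) (act g (∑ i, a₃ i • e₃ i))
        (act g (∑ i, a₄ i • e₄ i))
      = ∑ i, ∑ j, ∑ k, ∑ l, a₁ i * a₂ j * a₃ k * a₄ l
          * four b s B (act g (e₁ i)) (act g (e₂ j)) (act g (e₃ k)) (act g (e₄ l)) := by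
  simp only [four, map_sum, map_smul, LinearMap.sum_apply, LinearMap.smul_apply, smul_eq_mul, Finset.mul_sum,
    Finset.smul_sum, smul_smul]
  rw [Finset.sum_comm]
  conv_lhs => enter [2, i]; rw [Finset.sum_comm]
  conv_lhs => enter [2, i, 2, j]; rw [Finset.sum_comm]
  rw [Finset.sum_comm]
  refine Fintype.sum_congr _ _ fun i => ?_
  refine Fintype.sum_congr _ _ fun j => ?_
  refine Fintype.sum_congr _ _ fun k => ?_
  refine Fintype.sum_congr _ _ fun l => ?_
  ring

/-- Coefficients of the root group of a frame. -/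
def coef (κ : F) : Fin 3 → Fin 3 → F := ![![1, 0, 0], ![-κ, 1, 0], ![-(κ / 2), 1, 1]]

section

variable [Fintype F] [DecidableEq F]

/-- The sum over the non-trivial cosets. -/
noncomputable def delta [Fintype (M ⧸ presGroup B b s M)] [DecidableEq (M ⧸ presGroup B b s M)]
    (x y v w : Fin 3 × Fin 3 → F) : F :=
  ∑ q ∈ Finset.univ.erase (QuotientGroup.mk (1 : M) : M ⧸ presGroup B b s M), phi b s B M q x y v w

variable [Fintype (M ⧸ presGroup B b s M)] [DecidableEq (M ⧸ presGroup B b s M)]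

theorem smul_base {g : M} (hg : g ∈ presGroup B b s M) :
    g • (QuotientGroup.mk (1 : M) : M ⧸ presGroup B b s M) = QuotientGroup.mk 1 := by
  rw [MulAction.Quotient.smul_mk, smul_eq_mul, mul_one, QuotientGroup.eq, mul_one]
  exact (presGroup B b s M).inv_mem hg

theorem delta_inv {g : GL (Fin 3 × Fin 3) F} (hg : g ∈ M) (hp : Pres b s B g) (x y v w : Fin 3 × Fin 3 → F) :
    delta (B := B) (b := b) (s := s) (M := M) (act g x) (act g y) (act g v) (act g w)
      = delta (B := B) (b := b) (s := s) (M := M) x y v w := by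
  have hmem : (⟨g, hg⟩ : M) ∈ presGroup B b s M := hp
  refine Eq.symm (Finset.sum_equiv (MulAction.toPerm (⟨g, hg⟩ : M)) (fun q => ?_) fun q _ => ?_)
  · simp only [Finset.mem_erase, Finset.mem_univ, and_true, MulAction.toPerm_apply]
    conv_rhs => rw [← smul_base hmem]
    exact (MulAction.injective (β := M ⧸ presGroup B b s M) (⟨g, hg⟩ : M)).ne_iff.symm
  · exact (phi_smul (⟨g, hg⟩ : M) q x y v w).symm

/-- The contribution of the orbits of a root group. -/
theorem left_lemma (hC : Ctx B b s M) (hq : 5 ≤ Fintype.card F) (fr : Fin 3 → Fin 3 → F)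
    (hb : Fr b (fr 0) (fr 1) (fr 2)) :
    ∃ Φ : (Fin 4 → Fin 3 → F) → F, ∀ (I : Fin 4 → Fin 3) (w : Fin 4 → Fin 3 → F),
      (∑ k, (I k : ℕ) < Fintype.card F - 1 →
        delta (B := B) (b := b) (s := s) (M := M) (ten (fr (I 0)) (w 0)) (ten (fr (I 1)) (w 1))
          (ten (fr (I 2)) (w 2)) (ten (fr (I 3)) (w 3)) = 0) ∧
      (∑ k, (I k : ℕ) = Fintype.card F - 1 →
        delta (B := B) (b := b) (s := s) (M := M) (ten (fr (I 0)) (w 0)) (ten (fr (I 1)) (w 1))
          (ten (fr (I 2)) (w 2)) (ten (fr (I 3)) (w 3))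
          = (coef (b (fr 1) (fr 1)) (I 0) 0 * coef (b (fr 1) (fr 1)) (I 1) 0 * coef (b (fr 1) (fr 1)) (I 2) 0
              * coef (b (fr 1) (fr 1)) (I 3) 0) * Φ w) := by
  set z := fr 0 with hz
  set u := fr 1 with hu
  set y := fr 2 with hy
  have hT := hC.hG.hT
  obtain ⟨hyz, huz, huy⟩ := hb.yz hT.left
  have htu : ∀ t : F, b z (t • u) = 0 := fun t => by rw [map_smul, hb.zu, smul_zero]
  choose E hEM hEX hEa using fun t : F => hC.hG.hM.ekL hT hb.zz (htu t)
  have hadd : ∀ t t', E (t + t') = E t * E t' := fun t t' => act_inj (by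
    rw [act_mul, hEa, hEa, hEa, tm_mul, one_mul, ek_mul hT.left hb.zz (htu t) (htu t'), add_smul])
  have hE0 : E 0 = 1 := act_inj (by rw [hEa, zero_smul, ek_zero, tm_one, act_one])
  have hEp : ∀ t, (⟨E t, hEM t⟩ : M) ∈ presGroup B b s M := fun t =>
    pres_of_inW hT (hC.hG.hM.sub (hEM t)) (Or.inl (isK_of_mem_krs (hEX t).1))
  set base : M ⧸ presGroup B b s M := QuotientGroup.mk 1 with hbase
  have hsub : ∀ t t', (⟨E (t + t'), hEM _⟩ : M) = ⟨E t, hEM t⟩ * ⟨E t', hEM t'⟩ := fun t t' => Subtype.ext (hadd t t')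
  obtain ⟨R, hR, hsum⟩ := exists_reps (A := F) (fun (t : F) (q : M ⧸ presGroup B b s M) => (⟨E t, hEM t⟩ : M) • q)
    (fun q => by
      show (⟨E 0, hEM 0⟩ : M) • q = q
      rw [show (⟨E 0, hEM 0⟩ : M) = 1 from Subtype.ext hE0, one_smul])
    (fun t t' q => by
      show (⟨E (t + t'), hEM _⟩ : M) • q = _
      rw [hsub, mul_smul])
    (Finset.univ.erase base)
    (fun t q hq => by
      refine Finset.mem_erase.2 ⟨fun e => (Finset.mem_erase.1 hq).1 ?_, Finset.mem_univ _⟩
      have e' : (⟨E t, hEM t⟩ : M) • q = (⟨E t, hEM t⟩ : M) • base := by rw [e, hbase, smul_base (hEp t)]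
      exact MulAction.injective _ e')
    (fun t q hq' e => by
      by_contra ht
      refine (Finset.mem_erase.1 hq').1 ?_
      revert e hq'
      induction q using QuotientGroup.induction_on with
      | _ g =>
        intro _ e
        simp only [MulAction.Quotient.smul_mk, smul_eq_mul, QuotientGroup.eq, _root_.mul_inv_rev] at e
        have hp' : Pres b s B ((g.1⁻¹ * E t * g.1)⁻¹) := by
          have : Pres b s B (g.1⁻¹ * (E t)⁻¹ * g.1) := by
            have e' := e
            rw [mul_assoc] at e' ⊢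
            exact e'
          simpa [mul_assoc] using this
        have hvM : g.1⁻¹ * E t * g.1 ∈ M := M.mul_mem (M.mul_mem (M.inv_mem g.2) (hEM t)) g.2
        have hW : InW (g.1⁻¹ * E t * g.1) := inW_of_pres hC hvM (by simpa using hp'.inv)
        have hgW := semiregular hC (by rwa [Nat.card_eq_fintype_card]) g.2 hb ht (hEa t) hW
        rw [hbase, QuotientGroup.eq, mul_one]
        exact (presGroup B b s M).inv_mem (pres_of_inW hT (hC.hG.hM.sub g.2) hgW))
  refine ⟨fun w => -∑ r ∈ R, phi b s B M r (ten z (w 0)) (ten z (w 1)) (ten z (w 2)) (ten z (w 3)), fun I w => ?_⟩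
  set co := coef (b u u) with hco
  have hexp : ∀ (t : F) (i : Fin 3) (f : Fin 3 → F),
      act (E t) (ten (fr i) f) = ∑ k : Fin 3, (co i k * t ^ ((i : ℕ) - (k : ℕ))) • ten (fr k) f := fun t i f => by
    rw [hEa, tm_ten, Module.End.one_apply, Fin.sum_univ_three, ← ten_smul_left, ← ten_smul_left, ← ten_smul_left,
      ← ten_add_left, ← ten_add_left]
    congr 1
    rw [ek_apply]
    fin_cases i <;> simp [hco, coef, ← hz, ← hu, ← hy, hb.zz, hb.zy, hb.zu, hb.yu, huz, huy] <;> module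
  -- the sum along one orbit
  have horb : ∀ r, ∑ t : F, phi b s B M ((⟨E t, hEM t⟩ : M) • r) (ten (fr (I 0)) (w 0)) (ten (fr (I 1)) (w 1))
        (ten (fr (I 2)) (w 2)) (ten (fr (I 3)) (w 3))
      = ∑ i : Fin 3, ∑ j : Fin 3, ∑ k : Fin 3, ∑ l : Fin 3, (co (I 0) i * co (I 1) j * co (I 2) k * co (I 3) l)
          * (∑ t : F, t ^ (((I 0 : ℕ) - i) + ((I 1 : ℕ) - j) + ((I 2 : ℕ) - k) + ((I 3 : ℕ) - l)))
          * phi b s B M r (ten (fr i) (w 0)) (ten (fr j) (w 1)) (ten (fr k) (w 2)) (ten (fr l) (w 3)) := by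
    intro r
    have hback : ∀ t v, act (E t) (act (E (-t)) v) = v := fun t v => by
      rw [← Module.End.mul_apply, ← act_mul, ← hadd, add_neg_cancel, hE0, act_one, Module.End.one_apply]
    rw [← Equiv.sum_comp (Equiv.neg F)]
    have e : ∀ t : F, phi b s B M ((⟨E (-t), hEM (-t)⟩ : M) • r) (ten (fr (I 0)) (w 0)) (ten (fr (I 1)) (w 1))
        (ten (fr (I 2)) (w 2)) (ten (fr (I 3)) (w 3))
      = ∑ i : Fin 3, ∑ j : Fin 3, ∑ k : Fin 3, ∑ l : Fin 3, (co (I 0) i * co (I 1) j * co (I 2) k * co (I 3) l)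
          * t ^ (((I 0 : ℕ) - i) + ((I 1 : ℕ) - j) + ((I 2 : ℕ) - k) + ((I 3 : ℕ) - l))
          * phi b s B M r (ten (fr i) (w 0)) (ten (fr j) (w 1)) (ten (fr k) (w 2)) (ten (fr l) (w 3)) := fun t => by
      have e1 : ∀ v, act (E (-t)) (act (E t) v) = v := fun v => by simpa using hback (-t) v
      conv_lhs => rw [← e1 (ten (fr (I 0)) (w 0)), ← e1 (ten (fr (I 1)) (w 1)), ← e1 (ten (fr (I 2)) (w 2)),
        ← e1 (ten (fr (I 3)) (w 3)), phi_smul (⟨E (-t), hEM (-t)⟩ : M), hexp, hexp, hexp, hexp]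
      rw [phi, four_expand]
      simp only [phi, pow_add]
      refine Fintype.sum_congr _ _ fun i => Fintype.sum_congr _ _ fun j => Fintype.sum_congr _ _ fun k =>
        Fintype.sum_congr _ _ fun l => ?_
      ring
    simp only [Equiv.neg_apply, e]
    simp only [Finset.mul_sum, Finset.sum_mul]
    rw [Finset.sum_comm]
    refine Fintype.sum_congr _ _ fun i => ?_
    rw [Finset.sum_comm]
    refine Fintype.sum_congr _ _ fun j => ?_
    rw [Finset.sum_comm]
    refine Fintype.sum_congr _ _ fun k => ?_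
    exact Finset.sum_comm
  have hvan : ∀ (i : Fin 3) (k : Fin 3), co i k ≠ 0 → (k : ℕ) ≤ i := fun i k => by
    fin_cases i <;> fin_cases k <;> simp [hco, coef]
  have hd : delta (B := B) (b := b) (s := s) (M := M) (ten (fr (I 0)) (w 0)) (ten (fr (I 1)) (w 1))
      (ten (fr (I 2)) (w 2)) (ten (fr (I 3)) (w 3)) = ∑ r ∈ R, ∑ t, phi b s B M ((⟨E t, hEM t⟩ : M) • r)
        (ten (fr (I 0)) (w 0)) (ten (fr (I 1)) (w 1)) (ten (fr (I 2)) (w 2)) (ten (fr (I 3)) (w 3)) :=
    hsum fun q => phi b s B M q (ten (fr (I 0)) (w 0)) (ten (fr (I 1)) (w 1)) (ten (fr (I 2)) (w 2))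
      (ten (fr (I 3)) (w 3))
  simp only [Fin.sum_univ_four]
  refine ⟨fun hlt => ?_, fun heq => ?_⟩
  · rw [hd]
    refine Finset.sum_eq_zero fun r _ => ?_
    rw [horb]
    refine Finset.sum_eq_zero fun i _ => Finset.sum_eq_zero fun j _ => Finset.sum_eq_zero fun k _ =>
      Finset.sum_eq_zero fun l _ => ?_
    rw [FiniteField.sum_pow_lt_card_sub_one _ _ (by omega), mul_zero, zero_mul]
  · rw [hd, neg_eq_neg_one_mul, Finset.mul_sum, Finset.mul_sum]
    refine Finset.sum_congr rfl fun r _ => ?_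
    rw [horb]
    rw [Finset.sum_eq_single (0 : Fin 3) _ (by simp), Finset.sum_eq_single (0 : Fin 3) _ (by simp),
      Finset.sum_eq_single (0 : Fin 3) _ (by simp), Finset.sum_eq_single (0 : Fin 3) _ (by simp)]
    · simp only [Fin.val_zero, Nat.sub_zero, heq, ← hz]
      have hsumq : ∑ t : F, t ^ (Fintype.card F - 1) = -1 := by
        rw [← Finset.sum_erase_add _ _ (Finset.mem_univ (0 : F)), zero_pow (by omega), add_zero,
          Finset.sum_congr rfl (fun t ht => FiniteField.pow_card_sub_one_eq_one t (Finset.mem_erase.1 ht).1),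
          Finset.sum_const, Finset.card_erase_of_mem (Finset.mem_univ _), Finset.card_univ, nsmul_one,
          Nat.cast_sub (by omega), Nat.cast_one, FiniteField.cast_card_eq_zero, zero_sub]
      rw [hsumq]
      ring
    all_goals
      intro m _ hm
      have hm' : (m : ℕ) ≠ 0 := fun e => hm (Fin.ext e)
      try refine Finset.sum_eq_zero fun _ _ => ?_
      try refine Finset.sum_eq_zero fun _ _ => ?_
      try refine Finset.sum_eq_zero fun _ _ => ?_
      by_contra hne
      simp only [mul_eq_zero, not_or] at hne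
      obtain ⟨⟨⟨⟨⟨n0, n1⟩, n2⟩, n3⟩, hp⟩, -⟩ := hne
      have := hvan _ _ n0; have := hvan _ _ n1; have := hvan _ _ n2; have := hvan _ _ n3
      exact hp (FiniteField.sum_pow_lt_card_sub_one _ _ (by first | omega | (simp only [Fin.val_zero] at *; omega)))

theorem coef_ne {κ : F} (hκ : κ ≠ 0) (h2 : (2 : F) ≠ 0) (i : Fin 3) : coef κ i 0 ≠ 0 := by
  fin_cases i <;> simp [coef, hκ, h2]

/-- The sum over the non-trivial cosets vanishes. -/
theorem delta_eq_zero (hC : Ctx B b s M) (hq : 5 ≤ Fintype.card F) (hodd : Odd (Fintype.card F))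
    (x y v w : Fin 3 × Fin 3 → F) : delta (B := B) (b := b) (s := s) (M := M) x y v w = 0 := by
  have hT := hC.hG.hT
  have h2 : (2 : F) ≠ 0 := hT.two
  obtain ⟨z₀, u₀, y₀, hb⟩ := exists_frame' hT.left
  set fr : Fin 3 → Fin 3 → F := ![z₀, u₀, y₀] with hfr
  set fr' : Fin 3 → Fin 3 → F := ![y₀, u₀, z₀] with hfr'
  obtain ⟨Φ, hΦ⟩ := left_lemma hC hq fr (by simpa [hfr] using hb)
  obtain ⟨Φ', hΦ'⟩ := left_lemma hC hq fr' (by simpa [hfr'] using hb.swap hT.left)
  have hrev : ∀ i : Fin 3, fr i = fr' i.rev := fun i => by fin_cases i <;> simp [hfr, hfr']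
  have hrevv : ∀ i : Fin 3, (i.rev : ℕ) = 2 - i := fun i => by simp [Fin.val_rev]
  obtain ⟨τ, hτ, A, C, hAC⟩ := hC.swap
  obtain ⟨hA, -⟩ := isS_bij hAC
  set eA := LinearEquiv.ofBijective A hA with heA
  set ys : Fin 3 → Fin 3 → F := fun j => eA.symm (fr j) with hys
  set cs : Fin 3 → Fin 3 → F := fun i => C (fr i) with hcs
  have hτe : ∀ i j, act τ (ten (fr i) (ys j)) = ten (fr j) (cs i) := fun i j => by
    rw [hAC]
    congr 1
    exact eA.apply_symm_apply (fr j)
  have hτp : Pres b s B τ := pres_of_inW hT (hC.hG.hM.sub hτ) (Or.inr ⟨A, C, hAC⟩)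
  let D : (Fin 4 → Fin 3) → (Fin 4 → Fin 3 → F) → F := fun I w =>
    delta (B := B) (b := b) (s := s) (M := M) (ten (fr (I 0)) (w 0)) (ten (fr (I 1)) (w 1)) (ten (fr (I 2)) (w 2))
      (ten (fr (I 3)) (w 3))
  have hswap : ∀ I J : Fin 4 → Fin 3, D I (ys ∘ J) = D J (cs ∘ I) := fun I J => by
    have e := delta_inv hτ hτp (ten (fr (I 0)) (ys (J 0))) (ten (fr (I 1)) (ys (J 1))) (ten (fr (I 2)) (ys (J 2)))
      (ten (fr (I 3)) (ys (J 3)))
    simp only [hτe] at e
    exact e.symm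
  have hcard : Fintype.card F = 5 ∨ 7 ≤ Fintype.card F := by obtain ⟨k, hk⟩ := hodd; omega
  set κ := b u₀ u₀ with hκ
  let W : (Fin 4 → Fin 3) → F := fun I => coef κ (I 0) 0 * coef κ (I 1) 0 * coef κ (I 2) 0 * coef κ (I 3) 0
  have hW0 : ∀ I, W I ≠ 0 := fun I =>
    mul_ne_zero (mul_ne_zero (mul_ne_zero (coef_ne hb.uu h2 _) (coef_ne hb.uu h2 _)) (coef_ne hb.uu h2 _))
      (coef_ne hb.uu h2 _)
  -- outside the middle
  have houter : ∀ (I : Fin 4 → Fin 3) w,
      ¬(Fintype.card F = 5 ∧ ∑ k, (I k : ℕ) = 4) → D I w = 0 := by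
    intro I w h
    by_cases hlt : ∑ k, (I k : ℕ) < Fintype.card F - 1
    · exact (hΦ I w).1 hlt
    have := (hΦ' (fun k => (I k).rev) w).1 (by
      simp only [Fin.sum_univ_four, hrevv] at hlt h ⊢
      have := (I 0).isLt; have := (I 1).isLt; have := (I 2).isLt; have := (I 3).isLt
      omega)
    simpa [D, ← hrev] using this
  have hmid : ∀ (I : Fin 4 → Fin 3) w, Fintype.card F = 5 → ∑ k, (I k : ℕ) = 4 → D I w = W I * Φ w :=
    fun I w h5 h4 => by
      have := (hΦ I w).2 (by omega)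
      simpa [D, W, hfr, hκ] using this
  have hbasis : ∀ I J : Fin 4 → Fin 3, D I (ys ∘ J) = 0 := by
    intro I J
    by_cases hI : Fintype.card F = 5 ∧ ∑ k, (I k : ℕ) = 4
    swap
    · exact houter I _ hI
    by_cases hJ : Fintype.card F = 5 ∧ ∑ k, (J k : ℕ) = 4
    swap
    · rw [hswap]; exact houter J _ hJ
    set one' : Fin 4 → Fin 3 := fun _ => 1 with hone
    have hone4 : ∑ k, (one' k : ℕ) = 4 := by simp [hone]
    have h11 : D one' (ys ∘ one') = 0 := by
      refine Finset.sum_eq_zero fun q _ => ?_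
      exact four_self hT _ _ _
    have hΦ1 : Φ (ys ∘ one') = 0 :=
      (mul_eq_zero.1 ((hmid one' _ hI.1 hone4).symm.trans h11)).resolve_left (hW0 _)
    have hI1 : D I (ys ∘ one') = 0 := by rw [hmid I _ hI.1 hI.2, hΦ1, mul_zero]
    have hΦI : Φ (cs ∘ I) = 0 := by
      rw [hswap, hmid one' _ hI.1 hone4] at hI1
      exact (mul_eq_zero.1 hI1).resolve_left (hW0 _)
    rw [hswap, hmid J _ hI.1 hJ.2, hΦI, mul_zero]
  -- extension to all vectors
  have hsp : ∀ v : Fin 3 × Fin 3 → F, ∃ a : Fin 3 × Fin 3 → F, ∑ p, a p • ten (fr p.1) (ys p.2) = v := by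
    intro v
    set L : (Fin 3 × Fin 3 → F) →ₗ[F] (Fin 3 × Fin 3 → F) :=
      Fintype.linearCombination F (fun p : Fin 3 × Fin 3 => ten (fr p.1) (ys p.2)) with hL
    suffices h : LinearMap.range L = ⊤ by
      obtain ⟨a, ha⟩ : v ∈ LinearMap.range L := by rw [h]; trivial
      exact ⟨a, by rw [← ha, hL, Fintype.linearCombination_apply]⟩
    rw [eq_top_iff]
    have hkey : ∀ a c, ten a c ∈ LinearMap.range L := by
      intro a c
      have hij : ∀ i j, ten (fr i) (ys j) ∈ LinearMap.range L := fun i j =>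
        ⟨Pi.single (i, j) 1, by rw [hL, Fintype.linearCombination_apply_single, one_smul]⟩
      have h1 : ∀ i f, ten (fr i) f ∈ LinearMap.range L := fun i f => by
        have hf : f = eA.symm (A f) := (eA.symm_apply_apply f).symm
        rw [hf, ← hb.decomp hT.left (A f)]
        simp only [map_add, map_smul, ten_add_right, ten_smul_right]
        exact Submodule.add_mem _ (Submodule.add_mem _ (Submodule.smul_mem _ _ (hij i 0))
          (Submodule.smul_mem _ _ (hij i 1))) (Submodule.smul_mem _ _ (hij i 2))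
      rw [← hb.decomp hT.left a]
      simp only [ten_add_left, ten_smul_left]
      exact Submodule.add_mem _ (Submodule.add_mem _ (Submodule.smul_mem _ _ (h1 0 c))
        (Submodule.smul_mem _ _ (h1 1 c))) (Submodule.smul_mem _ _ (h1 2 c))
    intro p _
    have e := Tensor.map_ext (S := (LinearMap.range L).mkQ) (T := 0) fun a c => by
      simp [Submodule.Quotient.mk_eq_zero, hkey a c]
    simpa [Submodule.Quotient.mk_eq_zero] using LinearMap.congr_fun e p
  obtain ⟨a₁, rfl⟩ := hsp x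
  obtain ⟨a₂, rfl⟩ := hsp y
  obtain ⟨a₃, rfl⟩ := hsp v
  obtain ⟨a₄, rfl⟩ := hsp w
  simp only [delta, phi, four_expand]
  rw [Finset.sum_comm]
  refine Finset.sum_eq_zero fun i _ => ?_
  rw [Finset.sum_comm]
  refine Finset.sum_eq_zero fun j _ => ?_
  rw [Finset.sum_comm]
  refine Finset.sum_eq_zero fun k _ => ?_
  rw [Finset.sum_comm]
  refine Finset.sum_eq_zero fun l _ => ?_
  rw [← Finset.mul_sum]
  have := hbasis ![i.1, j.1, k.1, l.1] ![i.2, j.2, k.2, l.2]
  simp [D, delta, phi, -Finset.sum_erase_eq_sub] at this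
  rw [this, mul_zero]

/-- An overgroup with trivial root groups and an exchanging member lies in the stabiliser. -/
theorem inW_of_ctx (hC : Ctx B b s M) (hq : 5 ≤ Fintype.card F) (hodd : Odd (Fintype.card F))
    {g : GL (Fin 3 × Fin 3) F} (hg : g ∈ M) : InW g := by
  have htot : ∀ x y v w, four b s B x y v w = ∑ q : M ⧸ presGroup B b s M, phi b s B M q x y v w := by
    intro x y v w
    rw [← Finset.add_sum_erase _ _ (Finset.mem_univ (QuotientGroup.mk (1 : M)))]
    have := delta_eq_zero hC hq hodd x y v w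
    rw [delta] at this
    rw [this, add_zero, phi_mk]
    simp [act_one]
  refine inW_of_pres hC hg fun x y v w => ?_
  rw [htot, htot, ← Equiv.sum_comp (MulAction.toPerm (⟨g, hg⟩ : M))]
  exact Fintype.sum_congr _ _ fun q => phi_smul (⟨g, hg⟩ : M) q x y v w

end

end CfsgLib.Geo.TensorSq
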