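/-
`O_3 ⊗ O_3` extended by the exchange is maximal in `Ω_9(q)`, `q ≥ 5` odd.
-/
import Cfsg.Agent.Geo.TensorSq.Avg
import Cfsg.Agent.Geo.TensorOO.Full
import Cfsg.Agent.Geo.TensorOrthBridge
import Cfsg.Agent.Geo.OrthLagrangianPair
import Cfsg.Agent.Quad.OmegaSum

set_option autoImplicit false
set_option linter.unusedSectionVars false
set_option linter.unusedSimpArgs false

namespace CfsgLib.Geo.TensorSq

open Matrix QuadraticMap CfsgLib.Forms CfsgLib.Quad CfsgLib.Geo CfsgLib.Geo.Tensor CfsgLib.Geo.TensorO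
  CfsgLib.Geo.TensorSp CfsgLib.Geo.TensorOO CfsgLib.Geo.OS
open scoped Kronecker

variable {F : Type*} [Field F]

/-! ### The stabiliser as a subgroup -/

theorem InW.mul {g h : GL (Fin 3 × Fin 3) F} (hg : InW g) (hh : InW h) : InW (g * h) := by
  rcases hg with ⟨A, C, e⟩ | ⟨A, C, e⟩ <;> rcases hh with ⟨A', C', e'⟩ | ⟨A', C', e'⟩
  · exact Or.inl ⟨A * A', C * C', fun u f => by rw [act_mul, Module.End.mul_apply, e', e]; rfl⟩
  · exact Or.inr ⟨A * A', C * C', fun u f => by rw [act_mul, Module.End.mul_apply, e', e]; rfl⟩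
  · exact Or.inr ⟨A * C', C * A', fun u f => by rw [act_mul, Module.End.mul_apply, e', e]; rfl⟩
  · exact Or.inl ⟨A * C', C * A', fun u f => by rw [act_mul, Module.End.mul_apply, e', e]; rfl⟩

theorem inW_one : InW (1 : GL (Fin 3 × Fin 3) F) := Or.inl ⟨1, 1, fun u f => by simp [act_one]⟩

theorem InW.inv [Finite F] {g : GL (Fin 3 × Fin 3) F} (hg : InW g) : InW g⁻¹ := by
  have hp : ∀ k : ℕ, InW (g ^ k) := fun k => by
    induction k with
    | zero => rw [pow_zero]; exact inW_one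
    | succ k ih => rw [pow_succ]; exact ih.mul hg
  have hpos := orderOf_pos g
  have : g⁻¹ = g ^ (orderOf g - 1) := by
    rw [inv_eq_iff_mul_eq_one, ← pow_succ', Nat.sub_add_cancel hpos, pow_orderOf_eq_one]
  rw [this]
  exact hp _

/-- The stabiliser of the decomposition. -/
def wGroup (F : Type*) [Field F] [Finite F] : Subgroup (GL (Fin 3 × Fin 3) F) where
  carrier := {g | InW g}
  one_mem' := inW_one
  mul_mem' := InW.mul
  inv_mem' := InW.inv

section inner

variable [Fintype F] {Q : QuadraticForm F (Fin 3 × Fin 3 → F)} {b s : LinearMap.BilinForm F (Fin 3 → F)} {c : F}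

theorem act_toGL (g : oGroup Q) (x : Fin 3 × Fin 3 → F) : act (toGL Q g) x = g.1 x := toGL_mulVec g x

theorem toGL_mem_iso (g : oGroup Q) : toGL Q g ∈ iso (polarBilin Q) := fun x y => by
  rw [toGL_mulVec, toGL_mulVec]
  exact polar_oGroup g x y

theorem quad_eq (h2 : (2 : F) ≠ 0) (x : Fin 3 × Fin 3 → F) : Q x = polarBilin Q x x / 2 := by
  rw [polarBilin_apply_apply, polar_self, nsmul_eq_mul, Nat.cast_two, mul_comm, mul_div_cancel_right₀ _ h2]

theorem exists_toGL (h2 : (2 : F) ≠ 0) {x : GL (Fin 3 × Fin 3) F} (hx : x ∈ iso (polarBilin Q)) :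
    ∃ g : oGroup Q, toGL Q g = x := by
  have hq : ∀ v, Q ((x : Matrix _ _ F) *ᵥ v) = Q v := fun v => by rw [quad_eq h2, quad_eq h2 v, hx]
  refine ⟨isoGroupEquiv Q ⟨x, fun u _ => hq u⟩, ?_⟩
  show ((isoGroupEquiv Q).symm (isoGroupEquiv Q ⟨x, fun u _ => hq u⟩) : GL (Fin 3 × Fin 3) F) = x
  rw [MulEquiv.symm_apply_apply]

theorem room_three {t : LinearMap.BilinForm F (Fin 3 → F)} (ht : IsNS t) : Room t := by
  intro x y n hx hy hxy hxn hyn hn hnn
  exfalso
  obtain ⟨hp, hr, hf⟩ := isPr_hy ht hx hy hxy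
  obtain ⟨u, hu, huD, he⟩ := hp.exists_line ht (by simpa using hr)
  have e := LinearMap.congr_fun he n
  rw [(hf n).2 ⟨hxn, hyn⟩, pr1_apply] at e
  rw [e] at hnn
  simp [hu] at hnn
  exact hn (by rw [e, hnn, zero_div, zero_smul])

/-- An exchanging element in `Ω`. -/
theorem exists_swap (hT : IsTOO (polarBilin Q) b s) (hbs : b = c • s) (hc : c ≠ 0) :
    ∃ g ∈ commutator (oGroup Q), IsS (toGL Q g) := by
  have h2 : (2 : F) ≠ 0 := hT.two
  obtain ⟨z, u, y, hfr⟩ := exists_frame' hT.right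
  obtain ⟨hyz, huz, huy⟩ := hfr.yz hT.right
  set e : Fin 3 → Fin 3 → F := ![u, z + y, z - y] with he
  set nn : Fin 3 → F := ![s u u, 2, -2] with hnn
  have horth : ∀ i j, s (e i) (e j) = if i = j then nn i else 0 := fun i j => by
    fin_cases i <;> fin_cases j <;>
      simp [he, hnn, hfr.zz, hfr.zy, hfr.zu, hfr.yy, hfr.yu, hyz, huz, huy] <;> ring
  have hn0 : ∀ i, nn i ≠ 0 := fun i => by fin_cases i <;> simp [hnn, hfr.uu, h2]
  have hdec : ∀ v, (s (e 0) v / nn 0) • e 0 + (s (e 1) v / nn 1) • e 1 + (s (e 2) v / nn 2) • e 2 = v := fun v => by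
    conv_rhs => rw [← hfr.decomp hT.right v]
    simp [he, hnn]
    match_scalars <;> field_simp <;> ring
  obtain ⟨a, -, ha⟩ := (isPr_one hT.right).exists_value hT.right (by rw [rk_one']; simp) (2 * nn 0)
  have hB : ∀ p q p' q', polar Q (ten p q) (ten p' q') = c * s p p' * s q q' := fun p q p' q' => by
    rw [← polarBilin_apply_apply, hT.pol, hbs]; rfl
  have hQ : ∀ p q, Q (ten p q) = c * s p p * s q q / 2 := fun p q => by
    rw [quad_eq h2, polarBilin_apply_apply, hB]
  let d : Fin 3 → Fin 3 → (Fin 3 × Fin 3 → F) := fun i j => ten (e i) (e j) - ten (e j) (e i)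
  have hQd : ∀ i j, i ≠ j → Q (d i j) = c * nn i * nn j := fun i j hij => by
    rw [quad_eq h2]
    simp only [d, map_sub, LinearMap.sub_apply, polarBilin_apply_apply, hB, horth, hij, hij.symm, if_false, if_pos]
    field_simp
    ring
  have hrefl : ∀ (p : Fin 3 → F) (j : Fin 3), s p p ≠ 0 → ∀ (v : Fin 3 → F) (k : Fin 3),
      (refl Q (ten p (e j))).1 (ten v (e k))
        = if j = k then ten (v - (2 * s v p / s p p) • p) (e k) else ten v (e k) := by
    intro p j hp v k
    rw [refl_apply, hQ, hB, horth, horth]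
    by_cases hjk : j = k
    · subst hjk
      rw [if_pos rfl, ten_sub_left, ten_smul_left, sub_eq_add_neg, ← neg_smul]
      have := hn0 j
      have e' : -(c * (s p) p * nn j / 2)⁻¹ * (c * (s v) p * nn j) = -(2 * (s v) p / (s p) p) := by field_simp
      simp only [if_pos, if_true, e']
    · rw [if_neg hjk, if_neg (Ne.symm hjk), mul_zero, mul_zero, zero_smul, add_zero]
  let R : (Fin 3 → F) → Module.End F (Fin 3 → F) := fun p => 1 - (2 / s p p) • (s.flip p).smulRight p
  have hR : ∀ p v, R p v = v - (2 * s v p / s p p) • p := fun p v => by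
    simp [R, smul_smul, mul_div_right_comm]
  have hblock : ∀ (p : Fin 3 → F), s p p ≠ 0 → ∀ (v : Fin 3 → F) (k : Fin 3),
      (reflProd Q [ten p (e 0), ten p (e 1), ten p (e 2)]).1 (ten v (e k)) = ten (R p v) (e k) := fun p hp v k => by
    show (refl Q (ten p (e 0)) * (refl Q (ten p (e 1)) * (refl Q (ten p (e 2)) * 1))).1 (ten v (e k)) = _
    show (refl Q (ten p (e 0))).1 ((refl Q (ten p (e 1))).1 ((refl Q (ten p (e 2))).1 (ten v (e k)))) = _
    rw [hR]
    fin_cases k <;> simp [hrefl p _ hp]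
  set L1 := [d 0 1, d 0 2, d 1 2] with hL1
  set Lr := fun p : Fin 3 → F => [ten p (e 0), ten p (e 1), ten p (e 2)] with hLr
  set vs := L1 ++ (Lr (e 0) ++ (Lr (e 1) ++ (Lr (e 2) ++ (Lr (e 0) ++ Lr a)))) with hvs
  have ha0 : s a a ≠ 0 := by rw [ha]; exact mul_ne_zero h2 (hn0 0)
  have he0 : ∀ i, s (e i) (e i) ≠ 0 := fun i => by rw [horth, if_pos rfl]; exact hn0 i
  have hne : ∀ v ∈ vs, Q v ≠ 0 := by
    intro v hv
    simp only [hvs, hL1, hLr, List.mem_append, List.mem_cons, List.not_mem_nil, or_false] at hv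
    rcases hv with (h | h | h) | (h | h | h) | (h | h | h) | (h | h | h) | (h | h | h) | (h | h | h) <;> subst h
    all_goals first
      | (rw [hQd _ _ (by decide)]; exact mul_ne_zero (mul_ne_zero hc (hn0 _)) (hn0 _))
      | (rw [hQ]; refine div_ne_zero (mul_ne_zero (mul_ne_zero hc ?_) (he0 _)) h2; first | exact he0 _ | exact ha0)
  have hcomm : reflProd Q vs ∈ commutator (oGroup Q) := by
    rw [reflProd_mem_commutator_iff hT.isNS.nd (Or.inl ⟨-1, neg_ne_zero.2 one_ne_zero,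
      fun h => h2 (by linear_combination -h)⟩) hne]
    refine ⟨by simp [hvs, hL1, hLr]; decide, ?_⟩
    simp [hvs, hL1, hLr, hQd, hQ, horth, ha]
    exact ⟨c ^ 9 * nn 0 ^ 8 * nn 1 ^ 5 * nn 2 ^ 5 / 2 ^ 6, by field_simp; try ring⟩
  refine ⟨_, hcomm, LinearMap.id, -(R (e 0) * R a), fun v f => ?_⟩
  have hneg : ∀ w, R (e 0) (R (e 1) (R (e 2) w)) = -w := fun w => by
    conv_rhs => rw [← hdec w]
    simp only [hR, horth, map_sub, map_smul, LinearMap.sub_apply, LinearMap.smul_apply]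
    conv_lhs => rw [← hdec w]
    simp [horth]
    match_scalars <;> field_simp [hn0 0, hn0 1, hn0 2] <;> ring
  have hswap : ∀ w k, (reflProd Q L1).1 (ten w (e k)) = ten (e k) w := by
    intro w k
    have hd1 : ∀ i j, i ≠ j → ∀ v l, (refl Q (d i j)).1 (ten v (e l))
        = ten v (e l) - ((s v (e i) / nn i) * (if l = j then 1 else 0) - (s v (e j) / nn j) * (if l = i then 1 else 0)) • d i j := by
      intro i j hij v l
      rw [refl_apply, hQd i j hij, sub_eq_add_neg, ← neg_smul]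
      congr 2
      simp only [d, polar_sub_right, hB, horth]
      have := hn0 i; have := hn0 j
      by_cases h1 : l = i <;> by_cases h3 : l = j <;> simp [h1, h3, hij, hij.symm] <;> field_simp
      all_goals first | ring | exact absurd (h1.symm.trans h3) hij
    have hbase : ∀ i l, (reflProd Q L1).1 (ten (e i) (e l)) = ten (e l) (e i) := by
      intro i l
      show (refl Q (d 0 1)).1 ((refl Q (d 0 2)).1 ((refl Q (d 1 2)).1 (ten (e i) (e l)))) = _
      simp only [hd1 1 2 (by decide), hd1 0 2 (by decide), hd1 0 1 (by decide), d, map_sub, map_smul, horth]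
      fin_cases i <;> fin_cases l <;>
        simp only [Fin.isValue, Fin.zero_eta, Fin.mk_one, Fin.reduceFinMk, Fin.reduceEq, if_false, if_true,
          ↓reduceIte, mul_zero, mul_one, zero_mul, zero_div, one_mul, sub_zero, zero_sub, div_self (hn0 0),
          div_self (hn0 1), div_self (hn0 2), zero_smul, one_smul, neg_smul] <;> abel
    conv_rhs => rw [← hdec w]
    conv_lhs => rw [← hdec w]
    simp only [ten_add_left, ten_smul_left, map_add, map_smul, hbase, ten_add_right, ten_smul_right]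
  have hmul : ∀ (g h : oGroup Q) x, (g * h).1 x = g.1 (h.1 x) := fun _ _ _ => rfl
  have hlin : ∀ w, (reflProd Q vs).1 (ten v (e w)) = ten (e w) (-(R (e 0) (R a v))) := fun w => by
    rw [hvs, reflProd_append, reflProd_append, reflProd_append, reflProd_append, reflProd_append]
    rw [hmul, hmul, hmul, hmul, hmul]
    rw [hblock a ha0 v w, hblock (e 0) (he0 0), hblock (e 2) (he0 2), hblock (e 1) (he0 1),
      hblock (e 0) (he0 0), hneg, hswap]
  rw [act_toGL]
  conv_lhs => rw [← hdec f]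
  conv_rhs => rw [← hdec f]
  simp only [ten_add_right, ten_smul_right, map_add, map_smul, hlin, ten_add_left, ten_smul_left,
    LinearMap.id_apply, LinearMap.neg_apply, Module.End.mul_apply]

theorem fullAt_full (h2 : (2 : F) ≠ 0) {M : Subgroup (oGroup Q)} {e : Fin 3 × Fin 3 → F}
    (he : polarBilin Q e e = 0) (h : TensorOO.FullAt (polarBilin Q) (M.map (toGL Q)) e) : Full M e := fun a ha => by
  obtain ⟨g, hg, hgx⟩ := h a ha
  obtain ⟨g', hg', rfl⟩ := hg
  have heq : siegel Q e a = g' := by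
    refine Subtype.ext (LinearEquiv.ext fun x => ?_)
    rw [siegel_apply (by rw [quad_eq h2, he, zero_div]) ha, ← act_toGL g', hgx, quad_eq h2 a]
    rfl
  rw [heq]
  exact hg'

/-- Maximality in the commutator subgroup. -/
theorem inner_maximal (hT : IsTOO (polarBilin Q) b s) (hbs : b = c • s) (hc : c ≠ 0)
    (hq : 5 ≤ Fintype.card F) (hodd : Odd (Fintype.card F)) :
    Cfsg.Geo.IsMaximalIn (commutator (oGroup Q))
      ((wGroup F).comap (toGL Q) ⊓ commutator (oGroup Q)) := by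
  classical
  have h2 : (2 : F) ≠ 0 := hT.two
  have hQ : (polarBilin Q).Nondegenerate := hT.isNS.nd
  have hd : Module.finrank F (Fin 3 × Fin 3 → F) = 9 := by simp
  have hgen : (∃ t : F, t ≠ 0 ∧ t ≠ 1) ∨ Module.finrank F (Fin 3 × Fin 3 → F) ≠ 4 := Or.inr (by omega)
  constructor
  · refine lt_of_le_not_ge inf_le_right fun hle => ?_
    obtain ⟨z, u, y, hb⟩ := exists_frame' hT.left
    obtain ⟨x, v, w, hs⟩ := exists_frame' hT.right
    obtain ⟨hwx, hvx, hvw⟩ := hs.yz hT.right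
    obtain ⟨hyz, huz, huy⟩ := hb.yz hT.left
    have hB : ∀ p q p' q', polar Q (ten p q) (ten p' q') = b p p' * s q q' := fun p q p' q' => by
      rw [← polarBilin_apply_apply, hT.pol]
    have he : Q (ten z x) = 0 := by rw [quad_eq h2, polarBilin_apply_apply, hB, hb.zz, zero_mul, zero_div]
    have hea : polar Q (ten z x) (ten z v) = 0 := by rw [hB, hb.zz, zero_mul]
    have hmem : siegel Q (ten z x) (ten z v) ∈ commutator (oGroup Q) :=
      siegelGroup_le_commutator hQ (by omega) (siegel_mem_group he hea)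
    have him : act (toGL Q (siegel Q (ten z x) (ten z v))) (ten y w) = ten y w + ten z v := by
      rw [act_toGL, siegel_apply he hea, hB, hB, quad_eq h2 (ten z v), polarBilin_apply_apply, hB]
      simp [hyz, hwx, hs.yu, hb.zz]
    have hvne : v ≠ 0 := hs.ne.2.1
    have key : ∀ A C : Fin 3 → F, ten A C ≠ ten y w + ten z v := by
      intro A C e
      have h1 := congrArg (cu b z) e
      have h3 := congrArg (cu b y) e
      simp [hb.zy, hb.zz, hb.yy, hyz] at h1 h3
      have h4 := congrArg (s x) h1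
      have h5 := congrArg (s x) h3
      simp [hs.zy, hs.zu] at h4 h5
      rcases h5 with h5 | h5
      · exact hvne (by rw [← h3, h5, zero_smul])
      · rw [h5, mul_zero] at h4
        exact zero_ne_one h4
    rcases (hle hmem).1 with ⟨A, C, h⟩ | ⟨A, C, h⟩ <;> exact key _ _ ((h y w).symm.trans him)
  intro M hM hMK
  set M' := M.map (toGL Q) with hM'
  have hover : Over (polarBilin Q) M' := by
    refine ⟨?_, fun x hx => ?_⟩
    · rintro _ ⟨g, -, rfl⟩
      exact toGL_mem_iso g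
    · obtain ⟨g, rfl⟩ := exists_toGL h2 hx.2
      refine ⟨g * g, hM ⟨?_, sq_mem_commutator hQ hgen g⟩, map_mul _ _ _⟩
      show InW (toGL Q (g * g))
      rw [map_mul]
      exact InW.mul (Or.inl (isK_of_mem_krs hx.1)) (Or.inl (isK_of_mem_krs hx.1))
  obtain ⟨τ, hτ, hτS⟩ := exists_swap hT hbs hc
  have hτM : toGL Q τ ∈ M' := ⟨τ, hM ⟨Or.inr hτS, hτ⟩, rfl⟩
  have hra := room_three hT.left
  have hrb := room_three hT.right
  have hcard : 3 ≤ Fintype.card (Fin 3) := by simp
  have hbig : Big (Fin 3) F := fun _ => by rw [Nat.card_eq_fintype_card]; omega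
  by_cases hfull : ∃ e e', polarBilin Q e e = 0 ∧ polarBilin Q e' e' = 0 ∧ polarBilin Q e e' ≠ 0 ∧
      TensorOO.FullAt (polarBilin Q) M' e ∧ TensorOO.FullAt (polarBilin Q) M' e'
  · obtain ⟨e, e', he, he', hee, hf, hf'⟩ := hfull
    refine Or.inr (le_antisymm hMK ?_)
    exact commutator_le_of_two hQ (by omega) (by rw [quad_eq h2, he, zero_div]) (by rw [quad_eq h2, he', zero_div])
      hee (fullAt_full h2 he hf) (fullAt_full h2 he' hf')
  left
  have ho : OnlyZero b M' := fun z hz0 hz Γ hΓ => by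
    by_contra h0
    exact hfull (full_of_inR hT hover hra hrb hcard hcard hz0 hz hΓ h0)
  have ho' : OnlyZero s (swM M') := fun z hz0 hz Γ hΓ => by
    by_contra h0
    obtain ⟨e, e', he, he', hee, hf, hf'⟩ := full_of_inR hT.swap hover.swap hrb hra hcard hcard hz0 hz hΓ h0
    have tr : ∀ e, TensorOO.FullAt (swB (polarBilin Q)) (swM M') e → TensorOO.FullAt (polarBilin Q) M' (sw (Fin 3) (Fin 3) F e) := by
      intro e hf a ha
      obtain ⟨a, rfl⟩ := (sw (Fin 3) (Fin 3) F).surjective a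
      obtain ⟨g, hg, hgx⟩ := hf a ha
      refine ⟨swG g, hg, fun x => ?_⟩
      obtain ⟨x, rfl⟩ := (sw (Fin 3) (Fin 3) F).surjective x
      rw [act_swG, hgx, map_sub, map_add, map_smul, map_smul]
      rfl
    exact hfull ⟨_, _, he, he', hee, tr e hf, tr e' hf'⟩
  have hG : Good (polarBilin Q) b s M' := ⟨hT, hover, hcard, hcard, hra, hrb, hbig, hbig, ho, ho'⟩
  refine le_antisymm (le_inf (fun g hg => ?_) hMK) hM
  haveI : Fintype (M' ⧸ presGroup (polarBilin Q) b s M') := Fintype.ofFinite _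
  exact inW_of_ctx ⟨hG, _, hτM, hτS⟩ hq hodd (Subgroup.mem_map_of_mem _ hg)

end inner

/-! ### Coordinates -/

theorem map_maximal {G G' : Type*} [Group G] [Group G'] (φ : G ≃* G') {K H : Subgroup G}
    (h : Cfsg.Geo.IsMaximalIn K H) : Cfsg.Geo.IsMaximalIn (K.map φ.toMonoidHom) (H.map φ.toMonoidHom) := by
  refine ⟨(Subgroup.map_lt_map_iff_of_injective φ.injective).2 h.1, fun M hM hMK => ?_⟩
  have hM' : M = (M.comap φ.toMonoidHom).map φ.toMonoidHom :=
    (Subgroup.map_comap_eq_self_of_surjective φ.surjective M).symm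
  rw [hM'] at hM hMK ⊢
  rcases h.2 _ ((Subgroup.map_le_map_iff_of_injective φ.injective).1 hM)
    ((Subgroup.map_le_map_iff_of_injective φ.injective).1 hMK) with h' | h'
  · exact Or.inl (by rw [h'])
  · exact Or.inr (by rw [h'])

/-- Pairs of indices. -/
def pairE : (Fin 2 → Fin 3) ≃ Fin 3 × Fin 3 := finTwoArrowEquiv (Fin 3)

theorem perm_two : ∀ σ : Equiv.Perm (Fin 2), σ = 1 ∨ σ = Equiv.swap 0 1 := by decide

theorem wreath_iff [Finite F] (g : GL (Fin 2 → Fin 3) F) :
    g ∈ Cfsg.Geo.tensorWreathStandard 3 2 F ↔ InW (Cfsg.Geo.glReindex pairE g) := by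
  have hact : ∀ (g : GL (Fin 2 → Fin 3) F) (u f : Fin 3 → F) (p : Fin 3 × Fin 3),
      act (Cfsg.Geo.glReindex pairE g) (ten u f) p
        = ∑ x : Fin 2 → Fin 3, (g : Matrix _ _ F) (pairE.symm p) x * (u (x 0) * f (x 1)) := by
    intro g u f p
    show ((Matrix.reindexAlgEquiv F F pairE (g : Matrix _ _ F)) *ᵥ ten u f) p = _
    rw [Matrix.reindexAlgEquiv_apply, Matrix.reindex_apply, Matrix.submatrix_mulVec_equiv, Equiv.symm_symm]
    rfl
  have hpure : ∀ (g : GL (Fin 2 → Fin 3) F), IsK (Cfsg.Geo.glReindex pairE g) → Cfsg.Geo.IsPureTensor 3 2 g := by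
    intro g hg
    obtain ⟨a, c, hac⟩ := hg.mem_krs
    refine ⟨![a, c], fun x y => ?_⟩
    have e : ((Cfsg.Geo.glReindex pairE g : GL (Fin 3 × Fin 3) F) : Matrix _ _ F) (pairE x) (pairE y)
        = (g : Matrix _ _ F) x y := by
      show (Matrix.reindexAlgEquiv F F pairE (g : Matrix _ _ F)) _ _ = _
      simp
    rw [← e, hac, Fin.prod_univ_two]
    rfl
  constructor
  · intro hg
    show g ∈ (wGroup F).comap (Cfsg.Geo.glReindex pairE).toMonoidHom
    refine (Subgroup.closure_le _).2 ?_ hg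
    rintro g (⟨gs, hgs⟩ | ⟨σ, hσ⟩)
    · refine Or.inl (isK_of_mem_krs ⟨gs 0, gs 1, Units.ext (Matrix.ext fun p q => ?_)⟩)
      show (Matrix.reindexAlgEquiv F F pairE (g : Matrix _ _ F)) p q = _
      rw [Matrix.reindexAlgEquiv_apply, Matrix.reindex_apply, Matrix.submatrix_apply, hgs, Fin.prod_univ_two]
      rfl
    · have e : ∀ u f p, act (Cfsg.Geo.glReindex pairE g) (ten u f) p
          = u ((pairE.symm p) (σ 0)) * f ((pairE.symm p) (σ 1)) := fun u f p => by
        rw [hact]; simp [hσ]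
      rcases (perm_two σ) with rfl | rfl
      · exact Or.inl ⟨1, 1, fun u f => funext fun p => (e u f p).trans rfl⟩
      · exact Or.inr ⟨1, 1, fun u f => funext fun p => ((e u f p).trans (mul_comm _ _)).trans rfl⟩
  · intro hg
    rcases hg with hK | ⟨A, C, hS⟩
    · exact Subgroup.subset_closure (Or.inl (hpure g hK))
    let π : GL (Fin 2 → Fin 3) F :=
      Matrix.GeneralLinearGroup.mkOfDetNeZero
        (Equiv.Perm.permMatrix F
          (Equiv.arrowCongr (Equiv.swap (0 : Fin 2) 1) (Equiv.refl (Fin 3)) : Equiv.Perm (Fin 2 → Fin 3)))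
        (by
          rw [Matrix.det_permutation]
          rcases Int.units_eq_one_or (Equiv.Perm.sign
            (Equiv.arrowCongr (Equiv.swap (0 : Fin 2) 1) (Equiv.refl (Fin 3)) : Equiv.Perm (Fin 2 → Fin 3))) with h | h
            <;> simp [h])
    have hπ : Cfsg.Geo.IsFactorPermutation 3 2 π := by
      refine ⟨Equiv.swap 0 1, fun x y => ?_⟩
      show ((Equiv.arrowCongr (Equiv.swap (0 : Fin 2) 1) (Equiv.refl (Fin 3))).toPEquiv.toMatrix : Matrix _ _ F) x y = _
      simp [PEquiv.toMatrix_apply, Equiv.arrowCongr, eq_comm]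
    have hπS : IsS (Cfsg.Geo.glReindex pairE π) := ⟨1, 1, fun u f => funext fun p => by
      obtain ⟨σ, hσ⟩ : ∃ σ, σ = Equiv.swap (0 : Fin 2) 1 := ⟨_, rfl⟩
      rw [hact]
      have : ∀ x y, (π : Matrix _ _ F) x y = if y = x ∘ σ then 1 else 0 := fun x y => by
        show ((Equiv.arrowCongr (Equiv.swap (0 : Fin 2) 1) (Equiv.refl (Fin 3))).toPEquiv.toMatrix : Matrix _ _ F) x y = _
        simp [PEquiv.toMatrix_apply, Equiv.arrowCongr, hσ, eq_comm]
      simp [this, hσ]
      rw [mul_comm]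
      rfl⟩
    obtain ⟨A', C', hS'⟩ := hπS
    have : IsK (Cfsg.Geo.glReindex pairE (g * π)) := ⟨A * C', C * A', fun u f => by
      rw [map_mul, act_mul, Module.End.mul_apply, hS', hS]; rfl⟩
    have ha : g * π ∈ Cfsg.Geo.tensorWreathStandard 3 2 F := Subgroup.subset_closure (Or.inl (hpure _ this))
    have hb : π ∈ Cfsg.Geo.tensorWreathStandard 3 2 F := Subgroup.subset_closure (Or.inr hπ)
    have h1 := Subgroup.mul_mem _ ha (Subgroup.inv_mem _ hb)
    rwa [mul_inv_cancel_right] at h1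

variable {ι : Type} [Fintype ι] [DecidableEq ι] [Fintype F]

/-- The tensor-wreath subgroup `O_3 ≀ S_2` is maximal in `Ω_9(q)`. -/
theorem tensor_square_maximal (hodd : Odd (Fintype.card F)) (hq : 5 ≤ Fintype.card F) (Q : QuadraticForm F (ι → F))
    (e : ι ≃ (Fin 2 → Fin 3)) (P : GL ι F) {f₁ : (Fin 3 → F) → (Fin 3 → F) → F}
    (hf₁ : Cfsg.Geo.IsSymmetricForm f₁)
    (hT : Cfsg.Geo.IsTensorPowerFormStructure id (QuadraticMap.polar ⇑Q) f₁ e P) :
    Cfsg.Geo.IsMaximalIn (Cfsg.Geo.omegaGL ⇑Q)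
      (Cfsg.Geo.tensorWreathSubgroup 3 2 e P ⊓ Cfsg.Geo.omegaGL ⇑Q) := by
  classical
  have h2 : (2 : F) ≠ 0 := fun h => by
    haveI := CharTwo.of_one_ne_zero_of_two_eq_zero (one_ne_zero (α := F)) h
    have := FiniteField.even_card_of_char_two (F := F) (ringChar.eq F 2)
    obtain ⟨k, hk⟩ := hodd
    omega
  obtain ⟨c, hc, hform⟩ := hT
  set e' : ι ≃ Fin 3 × Fin 3 := e.trans pairE with he'
  let L : (Fin 3 × Fin 3 → F) ≃ₗ[F] (ι → F) :=
    (LinearEquiv.funCongrLeft F F e').trans (CfsgLib.Geo.glEquiv P)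
  have hL : ∀ x, L x = (P : Matrix ι ι F) *ᵥ (x ∘ e') := fun x => CfsgLib.Geo.glEquiv_apply P (x ∘ e')
  let Q' : QuadraticForm F (Fin 3 × Fin 3 → F) := Q.comp (L : (Fin 3 × Fin 3 → F) →ₗ[F] (ι → F))
  set s := CfsgLib.Geo.OS.bilOfIs hf₁.bilinear with hs
  have hnd : ∀ {d : F}, d ≠ 0 → IsNS (d • s) := fun {d} hd => by
    refine ⟨⟨fun v hv => ?_, fun v hv => ?_⟩, fun f f' => ?_, h2⟩
    · by_contra hv0
      obtain ⟨-, x, hx⟩ := hf₁.nondegenerate v hv0
      exact hx ((mul_eq_zero.1 (hv x)).resolve_left hd)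
    · by_contra hv0
      obtain ⟨⟨x, hx⟩, -⟩ := hf₁.nondegenerate v hv0
      exact hx ((mul_eq_zero.1 (hv x)).resolve_left hd)
    · show d * f₁ f f' = d * f₁ f' f
      rw [hf₁.symm]
  have hTO : IsTOO (polarBilin Q') (c • s) s := by
    refine ⟨hnd hc, by simpa using hnd (one_ne_zero (α := F)), fun u f u' f' => ?_⟩
    show Q (L (ten u f + ten u' f')) - Q (L (ten u f)) - Q (L (ten u' f')) = _
    rw [map_add]
    have hh := hform ((ten u f) ∘ pairE) ((ten u' f') ∘ pairE)
    rw [Function.comp_assoc, Function.comp_assoc] at hh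
    rw [hL, hL]
    refine hh.trans ?_
    show _ = c * f₁ u u' * f₁ f f'
    rw [mul_assoc, ← formOfGram_ten hf₁.bilinear hf₁.bilinear]
    congr 1
    simp only [Cfsg.Geo.formOfGram]
    refine Fintype.sum_equiv pairE _ _ fun a => Fintype.sum_equiv pairE _ _ fun a' => ?_
    rw [Fin.prod_univ_two]
    rfl
  have hin := inner_maximal hTO rfl hc hq hodd
  set φ := oGroupCongr (Q := Q') (Q' := Q) L (fun v => rfl) with hφ
  have hK : (commutator (oGroup Q')).map φ.toMonoidHom = commutator (oGroup Q) := by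
    rw [commutator_def, Subgroup.map_commutator, Subgroup.map_top_of_surjective _ φ.surjective, ← commutator_def]
  have hmax := map_maximal φ hin
  rw [Subgroup.map_inf _ _ _ φ.injective, hK] at hmax
  refine isMaximalIn_map_omega (fun g _ => ?_) hmax
  obtain ⟨g, rfl⟩ := φ.surjective g
  let ψ := glTransport e' P
  have htr : ∀ (k : GL (Fin 3 × Fin 3) F) x, ((ψ k : GL ι F) : Matrix ι ι F) *ᵥ L x
      = L ((k : Matrix (Fin 3 × Fin 3) (Fin 3 × Fin 3) F) *ᵥ x) := by
    intro k x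
    show ((P * Cfsg.Geo.glReindex e'.symm k * P⁻¹ : GL ι F) : Matrix ι ι F) *ᵥ L x = _
    rw [hL, hL, CfsgLib.Geo.mul_mulVec, CfsgLib.Geo.mul_mulVec, CfsgLib.Geo.inv_mulVec_mulVec]
    congr 1
    show (Matrix.reindexAlgEquiv F F e'.symm (k : Matrix (Fin 3 × Fin 3) (Fin 3 × Fin 3) F)) *ᵥ (x ∘ e') = _
    rw [Matrix.reindexAlgEquiv_apply, Matrix.reindex_apply, Matrix.submatrix_mulVec_equiv, Equiv.symm_symm]
    congr 1
    rw [Function.comp_assoc, Equiv.self_comp_symm, Function.comp_id]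
  have hgψ : toGL Q (φ g) = ψ (toGL Q' g) := CfsgLib.Geo.gl_ext_mulVec fun v => by
    obtain ⟨x, rfl⟩ := L.surjective v
    rw [toGL_mulVec, htr, toGL_mulVec, hφ]
    show L (g.1 (L.symm (L x))) = _
    rw [L.symm_apply_apply]
  have hψ : ∀ k, ψ k = P * Cfsg.Geo.glReindex e.symm ((Cfsg.Geo.glReindex pairE).symm k) * P⁻¹ := fun k => by
    show P * Cfsg.Geo.glReindex e'.symm k * P⁻¹ = _
    congr 2
  rw [hgψ, hψ (toGL Q' g)]
  constructor
  · rintro ⟨k₁, ⟨k, hk, rfl⟩, hk₁⟩
    refine ⟨g, ?_, rfl⟩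
    have hinj := (MulAut.conj P).injective hk₁
    have h1 := (Cfsg.Geo.glReindex e.symm).injective hinj
    have h3 := (wreath_iff k).1 hk
    rw [h1, MulEquiv.apply_symm_apply] at h3
    exact h3
  · rintro ⟨g', hg', hgg⟩
    rw [φ.injective hgg] at hg'
    refine ⟨_, ⟨(Cfsg.Geo.glReindex pairE).symm (toGL Q' g), ?_, rfl⟩, rfl⟩
    refine (wreath_iff _).2 ?_
    rw [MulEquiv.apply_symm_apply]
    exact hg'

end CfsgLib.Geo.TensorSq
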